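/-
Certificate data of a coset enumeration.
-/
import Cfsg.Agent.Lib.CosetEnum.ONMA.Data

set_option autoImplicit false
set_option maxRecDepth 1000000

namespace CfsgLib.CosetEnum.ONMA

open CfsgLib.CosetEnum

/-- Completion of the rows from 0. -/
noncomputable def rows0 : List (List ℕ) := [[(nat_lit 0x1001), (nat_lit 0x2001), (nat_lit 0x1)], [(nat_lit 0x4001), (nat_lit 0x3001), (nat_lit 0x1)], [(nat_lit 0x4001), (nat_lit 0x7001), (nat_lit 0x8001)], [(nat_lit 0x6001), (nat_lit 0x3001), (nat_lit 0x5001)], [(nat_lit 0xf001), (nat_lit 0x7001), (nat_lit 0xe001)], [(nat_lit 0x11001), (nat_lit 0x10001), (nat_lit 0x8001)], [(nat_lit 0x6001), (nat_lit 0xc001), (nat_lit 0xd001)], [(nat_lit 0xb001), (nat_lit 0x9001), (nat_lit 0x5001)], [(nat_lit 0xf001), (nat_lit 0x17001), (nat_lit 0x1c001)], [(nat_lit 0x1b001), (nat_lit 0x1a001), (nat_lit 0xe001)], [(nat_lit 0x11001), (nat_lit 0x1f001), (nat_lit 0x20001)], [(nat_lit 0x1e001),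 (nat_lit 0x10001), (nat_lit 0x1d001)], [(nat_lit 0x16001), (nat_lit 0xc001), (nat_lit 0x15001)], [(nat_lit 0x19001), (nat_lit 0x18001), (nat_lit 0xd001)], [(nat_lit 0xb001), (nat_lit 0x13001), (nat_lit 0x14001)], [(nat_lit 0x12001), (nat_lit 0x9001), (nat_lit 0xa001)], [(nat_lit 0x16001), (nat_lit 0x17001), (nat_lit 0x2a001)], [(nat_lit 0x34001), (nat_lit 0x33001), (nat_lit 0x1c001)], [(nat_lit 0x1b001), (nat_lit 0x31001), (nat_lit 0x32001)], [(nat_lit 0x30001), (nat_lit 0x1a001), (nat_lit 0x2f001)], [(nat_lit 0x3a001), (nat_lit 0x1f001), (nat_lit 0x39001)], [(nat_lit 0x21001), (nat_lit 0x3b001), (nat_lit 0x20001)], [(nat_lit 0x1e001), (nat_lit 0x37001), (nat_lit 0x38001)], [(nat_lit 0x36001), (nat_lit 0x35001), (nat_lit 0x1d001)], [(nat_lit 0x29001), (nat_lit 0x28001), (nat_lit 0x15001)], [(nat_lit 0x19001), (nat_lit 0x2d001), (nat_lit 0x2e001)], [(nat_lit 0x2c001), (nat_lit 0x18001), (nat_lit 0x2b001)], [(nat_lit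 0x25001), (nat_lit 0x13001), (nat_lit 0x24001)], [(nat_lit 0x27001), (nat_lit 0x26001), (nat_lit 0x14001)], [(nat_lit 0x12001), (nat_lit 0x22001), (nat_lit 0x23001)], [(nat_lit 0x4d001), (nat_lit 0x4c001), (nat_lit 0x2a001)], [(nat_lit 0x34001), (nat_lit 0x61001), (nat_lit 0x62001)], [(nat_lit 0x60001), (nat_lit 0x33001), (nat_lit 0x5f001)], [(nat_lit 0x5c001), (nat_lit 0x31001), (nat_lit 0x5b001)], [(nat_lit 0x5e001), (nat_lit 0x5d001), (nat_lit 0x32001)], [(nat_lit 0x30001), (nat_lit 0x59001), (nat_lit 0x5a001)], [(nat_lit 0x58001), (nat_lit 0x56001), (nat_lit 0x2f001)], [(nat_lit 0x3a001), (nat_lit 0x68001), (nat_lit 0x6d001)], [(nat_lit 0x6c001), (nat_lit 0x6b001), (nat_lit 0x39001)], [(nat_lit 0x70001), (nat_lit 0x3b001), (nat_lit 0x6f001)], [(nat_lit 0x67001), (nat_lit 0x37001), (nat_lit 0x66001)], [(nat_lit 0x6a001), (nat_lit 0x69001), (nat_lit 0x38001)], [(nat_lit 0x36001), (nat_lit 0x64001), (nat_lit 0x65001)],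 [(nat_lit 0x63001), (nat_lit 0x35001), (nat_lit 0x57001)], [(nat_lit 0x29001), (nat_lit 0x4a001), (nat_lit 0x4b001)], [(nat_lit 0x49001), (nat_lit 0x28001), (nat_lit 0x48001)], [(nat_lit 0x53001), (nat_lit 0x2d001), (nat_lit 0x52001)], [(nat_lit 0x55001), (nat_lit 0x54001), (nat_lit 0x2e001)], [(nat_lit 0x2c001), (nat_lit 0x50001), (nat_lit 0x51001)], [(nat_lit 0x4f001), (nat_lit 0x4e001), (nat_lit 0x2b001)], [(nat_lit 0x25001), (nat_lit 0x3e001), (nat_lit 0x43001)], [(nat_lit 0x42001), (nat_lit 0x41001), (nat_lit 0x24001)], [(nat_lit 0x27001), (nat_lit 0x46001), (nat_lit 0x47001)], [(nat_lit 0x45001), (nat_lit 0x26001), (nat_lit 0x44001)], [(nat_lit 0x3d001), (nat_lit 0x22001), (nat_lit 0x3c001)], [(nat_lit 0x40001), (nat_lit 0x3f001), (nat_lit 0x23001)], [(nat_lit 0x4d001), (nat_lit 0x91001), (nat_lit 0x92001)], [(nat_lit 0x90001), (nat_lit 0x4c001), (nat_lit 0x8f001)], [(nat_lit 0xb4001), (nat_lit 0x61001), (nat_lit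 0xb3001)], [(nat_lit 0xb7001), (nat_lit 0xb6001), (nat_lit 0x62001)], [(nat_lit 0x60001), (nat_lit 0xb1001), (nat_lit 0xb2001)], [(nat_lit 0xb0001), (nat_lit 0xaf001), (nat_lit 0x5f001)], [(nat_lit 0x5c001), (nat_lit 0xa7001), (nat_lit 0xab001)], [(nat_lit 0xaa001), (nat_lit 0xa9001), (nat_lit 0x5b001)], [(nat_lit 0x5e001), (nat_lit 0xad001), (nat_lit 0xae001)], [(nat_lit 0x1f990044d002), (nat_lit 0x5d001), (nat_lit 0xac001)], [(nat_lit 0xa6001), (nat_lit 0x59001), (nat_lit 0xa5001)], [(nat_lit 0x9c001), (nat_lit 0xa8001), (nat_lit 0x5a001)], [(nat_lit 0x58001), (nat_lit 0xa3001), (nat_lit 0xa4001)], [(nat_lit 0xa2001), (nat_lit 0x56001), (nat_lit 0x57001)], [(nat_lit 0x67001), (nat_lit 0x68001), (nat_lit 0xc1001)], [(nat_lit 0x6e001), (nat_lit 0xca001), (nat_lit 0x6d001)], [(nat_lit 0x6c001), (nat_lit 0xc7001), (nat_lit 0xc8001)], [(nat_lit 0xc6001), (nat_lit 0x6b001), (nat_lit 0xc5001)], [(nat_lit 0x70001), (nat_lit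 0xcd001), (nat_lit 0xcf001)], [(nat_lit 0xcc001), (nat_lit 0xcb001), (nat_lit 0x6f001)], [(nat_lit 0xc0001), (nat_lit 0xbf001), (nat_lit 0x66001)], [(nat_lit 0x6a001), (nat_lit 0x198500450002), (nat_lit 0xc4001)], [(nat_lit 0xc3001), (nat_lit 0x69001), (nat_lit 0xc2001)], [(nat_lit 0xbc001), (nat_lit 0x64001), (nat_lit 0xbb001)], [(nat_lit 0xbe001), (nat_lit 0xbd001), (nat_lit 0x65001)], [(nat_lit 0x63001), (nat_lit 0xb9001), (nat_lit 0xba001)], [(nat_lit 0x8c001), (nat_lit 0x4a001), (nat_lit 0x8b001)], [(nat_lit 0x8e001), (nat_lit 0x8d001), (nat_lit 0x4b001)], [(nat_lit 0x49001), (nat_lit 0x89001), (nat_lit 0x8a001)], [(nat_lit 0x88001), (nat_lit 0x86001), (nat_lit 0x48001)], [(nat_lit 0x53001), (nat_lit 0x98001), (nat_lit 0x9e001)], [(nat_lit 0x9d001), (nat_lit 0x9b001), (nat_lit 0x52001)], [(nat_lit 0x55001), (nat_lit 0xa1001), (nat_lit 0x85001)], [(nat_lit 0xa0001), (nat_lit 0x54001), (nat_lit 0x9f001)], [(nat_lit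 0x97001), (nat_lit 0x50001), (nat_lit 0x96001)], [(nat_lit 0x9a001), (nat_lit 0x99001), (nat_lit 0x51001)], [(nat_lit 0x4f001), (nat_lit 0x94001), (nat_lit 0x95001)], [(nat_lit 0x93001), (nat_lit 0x4e001), (nat_lit 0x87001)], [(nat_lit 0x3d001), (nat_lit 0x3e001), (nat_lit 0x73001)], [(nat_lit 0x1f140044a002), (nat_lit 0x7c001), (nat_lit 0x43001)], [(nat_lit 0x42001), (nat_lit 0x7a001), (nat_lit 0x7b001)], [(nat_lit 0x79001), (nat_lit 0x41001), (nat_lit 0x78001)], [(nat_lit 0x82001), (nat_lit 0x46001), (nat_lit 0x81001)], [(nat_lit 0x84001), (nat_lit 0x83001), (nat_lit 0x47001)], [(nat_lit 0x45001), (nat_lit 0x7f001), (nat_lit 0x80001)], [(nat_lit 0x7e001), (nat_lit 0x7d001), (nat_lit 0x44001)], [(nat_lit 0x72001), (nat_lit 0x71001), (nat_lit 0x3c001)], [(nat_lit 0x40001), (nat_lit 0x76001), (nat_lit 0x77001)], [(nat_lit 0x75001), (nat_lit 0x3f001), (nat_lit 0x74001)], [(nat_lit 0x10a001), (nat_lit 0x91001), (nat_lit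 0x109001)], [(nat_lit 0x10c001), (nat_lit 0x10b001), (nat_lit 0x92001)], [(nat_lit 0x90001), (nat_lit 0x107001), (nat_lit 0x108001)], [(nat_lit 0x106001), (nat_lit 0x104001), (nat_lit 0x8f001)], [(nat_lit 0xb4001), (nat_lit 0x13c001), (nat_lit 0xb5001)], [(nat_lit 0x1c1c00462002), (nat_lit 0x13f001), (nat_lit 0xb3001)], [(nat_lit 0xb7001), (nat_lit 0xb8001), (nat_lit 0x138001)], [(nat_lit 0x141001), (nat_lit 0xb6001), (nat_lit 0x140001)], [(nat_lit 0x13b001), (nat_lit 0xb1001), (nat_lit 0x13a001)], [(nat_lit 0x13e001), (nat_lit 0x13d001), (nat_lit 0xb2001)], [(nat_lit 0xb0001), (nat_lit 0x19b60045e002), (nat_lit 0x1b2b0045f002)], [(nat_lit 0x139001), (nat_lit 0xaf001), (nat_lit 0x105001)], [(nat_lit 0xa6001), (nat_lit 0xa7001), (nat_lit 0x12a001)], [(nat_lit 0x131001), (nat_lit 0x130001), (nat_lit 0xab001)], [(nat_lit 0xaa001), (nat_lit 0x12e001), (nat_lit 0x12f001)], [(nat_lit 0x12d001), (nat_lit 0xa9001), (nat_lit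 0x12c001)], [(nat_lit 0x135001), (nat_lit 0xad001), (nat_lit 0x134001)], [(nat_lit 0x137001), (nat_lit 0x136001), (nat_lit 0xae001)], [(nat_lit 0x133001), (nat_lit 0x132001), (nat_lit 0xac001)], [(nat_lit 0x129001), (nat_lit 0x128001), (nat_lit 0xa5001)], [(nat_lit 0x9c001), (nat_lit 0x9b001), (nat_lit 0x119001)], [(nat_lit 0x22bb0045d002), (nat_lit 0xa8001), (nat_lit 0x12b001)], [(nat_lit 0x125001), (nat_lit 0xa3001), (nat_lit 0x124001)], [(nat_lit 0x127001), (nat_lit 0x126001), (nat_lit 0xa4001)], [(nat_lit 0xa2001), (nat_lit 0x122001), (nat_lit 0x123001)], [(nat_lit 0x154001), (nat_lit 0x153001), (nat_lit 0xc1001)], [(nat_lit 0x164001), (nat_lit 0xca001), (nat_lit 0x163001)], [(nat_lit 0x161001), (nat_lit 0xc7001), (nat_lit 0x160001)], [(nat_lit 0xc9001), (nat_lit 0x162001), (nat_lit 0xc8001)], [(nat_lit 0xc6001), (nat_lit 0x15e001), (nat_lit 0x15f001)], [(nat_lit 0x15d001), (nat_lit 0x15b001), (nat_lit 0xc5001)],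 [(nat_lit 0xce001), (nat_lit 0xcd001), (nat_lit 0x168001)], [(nat_lit 0x16a001), (nat_lit 0x169001), (nat_lit 0xcf001)], [(nat_lit 0xcc001), (nat_lit 0x166001), (nat_lit 0x167001)], [(nat_lit 0x165001), (nat_lit 0xcb001), (nat_lit 0x15c001)], [(nat_lit 0xc0001), (nat_lit 0x151001), (nat_lit 0x152001)], [(nat_lit 0x150001), (nat_lit 0xbf001), (nat_lit 0x14f001)], [(nat_lit 0x159001), (nat_lit 0x158001), (nat_lit 0xc4001)], [(nat_lit 0xc3001), (nat_lit 0x19b800465002), (nat_lit 0x157001)], [(nat_lit 0x156001), (nat_lit 0x155001), (nat_lit 0xc2001)], [(nat_lit 0xbc001), (nat_lit 0x145001), (nat_lit 0x14a001)], [(nat_lit 0x149001), (nat_lit 0x148001), (nat_lit 0xbb001)], [(nat_lit 0xbe001), (nat_lit 0x14d001), (nat_lit 0x14e001)], [(nat_lit 0x14c001), (nat_lit 0xbd001), (nat_lit 0x14b001)], [(nat_lit 0x144001), (nat_lit 0xb9001), (nat_lit 0x143001)], [(nat_lit 0x147001), (nat_lit 0x146001), (nat_lit 0xba001)], [(nat_lit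 0x8c001), (nat_lit 0xfa001), (nat_lit 0xff001)], [(nat_lit 0xfe001), (nat_lit 0xfd001), (nat_lit 0x8b001)], [(nat_lit 0x8e001), (nat_lit 0x102001), (nat_lit 0x103001)], [(nat_lit 0x101001), (nat_lit 0x8d001), (nat_lit 0x100001)], [(nat_lit 0xf9001), (nat_lit 0x89001), (nat_lit 0xf8001)], [(nat_lit 0xfc001), (nat_lit 0xfb001), (nat_lit 0x8a001)], [(nat_lit 0x88001), (nat_lit 0xf6001), (nat_lit 0xf7001)], [(nat_lit 0xf5001), (nat_lit 0x86001), (nat_lit 0x87001)], [(nat_lit 0x97001), (nat_lit 0x98001), (nat_lit 0x114001)], [(nat_lit 0x11b001), (nat_lit 0x15f60045c002), (nat_lit 0x9e001)], [(nat_lit 0x9d001), (nat_lit 0x22ba0045b002), (nat_lit 0x11a001)], [(nat_lit 0x121001), (nat_lit 0xa1001), (nat_lit 0x120001)], [(nat_lit 0x84001), (nat_lit 0xf4001), (nat_lit 0x85001)], [(nat_lit 0xa0001), (nat_lit 0x11e001), (nat_lit 0x11f001)], [(nat_lit 0x11d001), (nat_lit 0x11c001), (nat_lit 0x9f001)], [(nat_lit 0x113001), (nat_lit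 0x1cf50045a002), (nat_lit 0x96001)], [(nat_lit 0x9a001), (nat_lit 0x117001), (nat_lit 0x118001)], [(nat_lit 0x116001), (nat_lit 0x99001), (nat_lit 0x115001)], [(nat_lit 0x110001), (nat_lit 0x94001), (nat_lit 0x10f001)], [(nat_lit 0x112001), (nat_lit 0x111001), (nat_lit 0x95001)], [(nat_lit 0x93001), (nat_lit 0x10d001), (nat_lit 0x10e001)], [(nat_lit 0xd5001), (nat_lit 0xd4001), (nat_lit 0x73001)], [(nat_lit 0xe8001), (nat_lit 0x7c001), (nat_lit 0xe7001)], [(nat_lit 0xe5001), (nat_lit 0x7a001), (nat_lit 0xe4001)], [(nat_lit 0xe6001), (nat_lit 0x1eda00455002), (nat_lit 0x7b001)], [(nat_lit 0x79001), (nat_lit 0xe2001), (nat_lit 0xe3001)], [(nat_lit 0xe1001), (nat_lit 0xdf001), (nat_lit 0x78001)], [(nat_lit 0x82001), (nat_lit 0xec001), (nat_lit 0xf1001)], [(nat_lit 0xf0001), (nat_lit 0xef001), (nat_lit 0x81001)], [(nat_lit 0xf3001), (nat_lit 0x83001), (nat_lit 0xf2001)], [(nat_lit 0xeb001), (nat_lit 0x7f001), (nat_lit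 0xea001)], [(nat_lit 0xee001), (nat_lit 0xed001), (nat_lit 0x80001)], [(nat_lit 0x7e001), (nat_lit 0x232900457002), (nat_lit 0xe9001)], [(nat_lit 0x232a00456002), (nat_lit 0x7d001), (nat_lit 0xe0001)], [(nat_lit 0x72001), (nat_lit 0xd2001), (nat_lit 0xd3001)], [(nat_lit 0xd1001), (nat_lit 0x71001), (nat_lit 0xd0001)], [(nat_lit 0xdb001), (nat_lit 0x76001), (nat_lit 0xda001)], [(nat_lit 0xdd001), (nat_lit 0xdc001), (nat_lit 0x77001)], [(nat_lit 0x75001), (nat_lit 0xd8001), (nat_lit 0xd9001)], [(nat_lit 0xd7001), (nat_lit 0xd6001), (nat_lit 0x74001)], [(nat_lit 0x10a001), (nat_lit 0x1c2001), (nat_lit 0x1c7001)], [(nat_lit 0x1c6001), (nat_lit 0x1c5001), (nat_lit 0x109001)], [(nat_lit 0x10c001), (nat_lit 0x1ca001), (nat_lit 0x1bd001)], [(nat_lit 0x1c9001), (nat_lit 0x10b001), (nat_lit 0x1c8001)], [(nat_lit 0x1c1001), (nat_lit 0x107001), (nat_lit 0x1c0001)], [(nat_lit 0x1c4001), (nat_lit 0x1c3001), (nat_lit 0x108001)],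 [(nat_lit 0x106001), (nat_lit 0x1be001), (nat_lit 0x1bf001)], [(nat_lit 0x1ef80047a002), (nat_lit 0x104001), (nat_lit 0x105001)], [(nat_lit 0x13b001), (nat_lit 0x13c001), (nat_lit 0x213001)], [(nat_lit 0x1c0c0048f002), (nat_lit 0x13f001), (nat_lit 0x216001)], [(nat_lit 0x137001), (nat_lit 0x210001), (nat_lit 0x138001)], [(nat_lit 0x141001), (nat_lit 0x142001), (nat_lit 0x219001)], [(nat_lit 0x218001), (nat_lit 0x217001), (nat_lit 0x140001)], [(nat_lit 0x212001), (nat_lit 0x211001), (nat_lit 0x13a001)], [(nat_lit 0x13e001), (nat_lit 0x19110048e002), (nat_lit 0x215001)], [(nat_lit 0x214001), (nat_lit 0x13d001), (nat_lit 0x19380048d002)], [(nat_lit 0x206001), (nat_lit 0x130001), (nat_lit 0x1b6e00484002)], [(nat_lit 0x139001), (nat_lit 0x19e800489002), (nat_lit 0x1c590048a002)], [(nat_lit 0x1fc001), (nat_lit 0x1fb001), (nat_lit 0x12a001)], [(nat_lit 0x131001), (nat_lit 0x207001), (nat_lit 0x208001)], [(nat_lit 0x203001),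 (nat_lit 0x12e001), (nat_lit 0x202001)], [(nat_lit 0x205001), (nat_lit 0x204001), (nat_lit 0x12f001)], [(nat_lit 0x12d001), (nat_lit 0x200001), (nat_lit 0x201001)], [(nat_lit 0x1d1800483002), (nat_lit 0x1fe001), (nat_lit 0x12c001)], [(nat_lit 0x135001), (nat_lit 0x208f00488002), (nat_lit 0x20d001)], [(nat_lit 0x20c001), (nat_lit 0x20b001), (nat_lit 0x134001)], [(nat_lit 0x20f001), (nat_lit 0x136001), (nat_lit 0x20e001)], [(nat_lit 0x133001), (nat_lit 0x20a001), (nat_lit 0x1d2400485002)], [(nat_lit 0x209001), (nat_lit 0x132001), (nat_lit 0x1ff001)], [(nat_lit 0x129001), (nat_lit 0x244100481002), (nat_lit 0x1fa001)], [(nat_lit 0x1f9001), (nat_lit 0x128001), (nat_lit 0x1f8001)], [(nat_lit 0x1df001), (nat_lit 0x1dd001), (nat_lit 0x119001)], [(nat_lit 0x1fd001), (nat_lit 0x234800482002), (nat_lit 0x12b001)], [(nat_lit 0x125001), (nat_lit 0x1ee001), (nat_lit 0x1f3001)], [(nat_lit 0x1f2001), (nat_lit 0x1f1001), (nat_lit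 0x124001)], [(nat_lit 0x127001), (nat_lit 0x1f6001), (nat_lit 0x1f7001)], [(nat_lit 0x1f5001), (nat_lit 0x126001), (nat_lit 0x1f4001)], [(nat_lit 0x1ed001), (nat_lit 0x122001), (nat_lit 0x1ec001)], [(nat_lit 0x1f0001), (nat_lit 0x1ef001), (nat_lit 0x123001)], [(nat_lit 0x154001), (nat_lit 0x22440049a002), (nat_lit 0x231001)], [(nat_lit 0x230001), (nat_lit 0x153001), (nat_lit 0x22f001)], [(nat_lit 0x164001), (nat_lit 0x244001), (nat_lit 0x246001)], [(nat_lit 0x20160049e002), (nat_lit 0x243001), (nat_lit 0x163001)], [(nat_lit 0x161001), (nat_lit 0x23d001), (nat_lit 0x241001)], [(nat_lit 0x240001), (nat_lit 0x23f001), (nat_lit 0x160001)], [(nat_lit 0x1d740049d002), (nat_lit 0x162001), (nat_lit 0x242001)], [(nat_lit 0x23c001), (nat_lit 0x15e001), (nat_lit 0x23b001)], [(nat_lit 0x17f001), (nat_lit 0x23e001), (nat_lit 0x15f001)], [(nat_lit 0x15d001), (nat_lit 0x239001), (nat_lit 0x23a001)], [(nat_lit 0x238001), (nat_lit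 0x15b001), (nat_lit 0x15c001)], [(nat_lit 0x250001), (nat_lit 0x24f001), (nat_lit 0x168001)], [(nat_lit 0x16a001), (nat_lit 0x252001), (nat_lit 0x16b001)], [(nat_lit 0x251001), (nat_lit 0x169001), (nat_lit 0x17280049f002)], [(nat_lit 0x24b001), (nat_lit 0x166001), (nat_lit 0x24a001)], [(nat_lit 0x24d001), (nat_lit 0x24c001), (nat_lit 0x167001)], [(nat_lit 0x165001), (nat_lit 0x248001), (nat_lit 0x249001)], [(nat_lit 0x22c001), (nat_lit 0x151001), (nat_lit 0x22b001)], [(nat_lit 0x22e001), (nat_lit 0x22d001), (nat_lit 0x152001)], [(nat_lit 0x150001), (nat_lit 0x229001), (nat_lit 0x22a001)], [(nat_lit 0x228001), (nat_lit 0x226001), (nat_lit 0x14f001)], [(nat_lit 0x159001), (nat_lit 0x15a001), (nat_lit 0x1edc0043a002)], [(nat_lit 0x236001), (nat_lit 0x158001), (nat_lit 0x1cd70049c002)], [(nat_lit 0x235001), (nat_lit 0x234001), (nat_lit 0x157001)], [(nat_lit 0x156001), (nat_lit 0x22dc0049b002), (nat_lit 0x233001)], [(nat_lit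 0x232001), (nat_lit 0x155001), (nat_lit 0x227001)], [(nat_lit 0x144001), (nat_lit 0x145001), (nat_lit 0x21a001)], [(nat_lit 0x207d00496002), (nat_lit 0x193400497002), (nat_lit 0x14a001)], [(nat_lit 0x149001), (nat_lit 0x220001), (nat_lit 0x190d00495002)], [(nat_lit 0x21f001), (nat_lit 0x148001), (nat_lit 0x21e001)], [(nat_lit 0x224001), (nat_lit 0x14d001), (nat_lit 0x223001)], [(nat_lit 0x1edc0043b002), (nat_lit 0x225001), (nat_lit 0x14e001)], [(nat_lit 0x14c001), (nat_lit 0x222001), (nat_lit 0x229200499002)], [(nat_lit 0x66300498002), (nat_lit 0x221001), (nat_lit 0x14b001)], [(nat_lit 0x19e100492002), (nat_lit 0x1ec500493002), (nat_lit 0x143001)], [(nat_lit 0x147001), (nat_lit 0x21c001), (nat_lit 0x21d001)], [(nat_lit 0x21b001), (nat_lit 0x146001), (nat_lit 0x1dbf00494002)], [(nat_lit 0xf9001), (nat_lit 0xfa001), (nat_lit 0x1ac001)], [(nat_lit 0x1b4001), (nat_lit 0x1b3001), (nat_lit 0xff001)], [(nat_lit 0xfe001),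 (nat_lit 0x1b1001), (nat_lit 0x1b2001)], [(nat_lit 0x19b000477002), (nat_lit 0xfd001), (nat_lit 0x1b0001)], [(nat_lit 0x1ba001), (nat_lit 0x102001), (nat_lit 0x1b9001)], [(nat_lit 0x1bc001), (nat_lit 0x1bb001), (nat_lit 0x103001)], [(nat_lit 0x101001), (nat_lit 0x1b7001), (nat_lit 0x1b8001)], [(nat_lit 0x1b6001), (nat_lit 0x1b5001), (nat_lit 0x100001)], [(nat_lit 0x23fd00475002), (nat_lit 0x1ab001), (nat_lit 0xf8001)], [(nat_lit 0xfc001), (nat_lit 0x1ae001), (nat_lit 0x1af001)], [(nat_lit 0x1efa00476002), (nat_lit 0xfb001), (nat_lit 0x1ad001)], [(nat_lit 0x1a9001), (nat_lit 0xf6001), (nat_lit 0x1a8001)], [(nat_lit 0x1aa001), (nat_lit 0x1c8e00474002), (nat_lit 0xf7001)], [(nat_lit 0xf5001), (nat_lit 0x1a6001), (nat_lit 0x1a7001)], [(nat_lit 0x1d690047d002), (nat_lit 0x1d5001), (nat_lit 0x114001)], [(nat_lit 0x11b001), (nat_lit 0x1e2001), (nat_lit 0x1e3001)], [(nat_lit 0x1e1001), (nat_lit 0x1e0001), (nat_lit 0x11a001)],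 [(nat_lit 0x121001), (nat_lit 0x1e9001), (nat_lit 0x16b001)], [(nat_lit 0x1eb001), (nat_lit 0x20e100480002), (nat_lit 0x120001)], [(nat_lit 0x1a5001), (nat_lit 0xf4001), (nat_lit 0x1a4001)], [(nat_lit 0x1e8001), (nat_lit 0x11e001), (nat_lit 0x1e7001)], [(nat_lit 0x1ea001), (nat_lit 0x1ca40047f002), (nat_lit 0x11f001)], [(nat_lit 0x11d001), (nat_lit 0x1e5001), (nat_lit 0x1e6001)], [(nat_lit 0x1e4001), (nat_lit 0x11c001), (nat_lit 0x1de001)], [(nat_lit 0x113001), (nat_lit 0x233a0047c002), (nat_lit 0x1d4001)], [(nat_lit 0x1da001), (nat_lit 0x117001), (nat_lit 0x1d9001)], [(nat_lit 0x1dc001), (nat_lit 0x1db001), (nat_lit 0x118001)], [(nat_lit 0x116001), (nat_lit 0x1d7001), (nat_lit 0x1d8001)], [(nat_lit 0x1d6001), (nat_lit 0x1cc70047e002), (nat_lit 0x115001)], [(nat_lit 0x110001), (nat_lit 0x233f00446002), (nat_lit 0x1cf001)], [(nat_lit 0x1ce001), (nat_lit 0x1cd001), (nat_lit 0x10f001)], [(nat_lit 0x112001), (nat_lit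 0x1d2001), (nat_lit 0x1d3001)], [(nat_lit 0x1d1001), (nat_lit 0x111001), (nat_lit 0x1d0001)], [(nat_lit 0x233f00447002), (nat_lit 0x10d001), (nat_lit 0x1cb001)], [(nat_lit 0x17980047b002), (nat_lit 0x1cc001), (nat_lit 0x10e001)], [(nat_lit 0xd5001), (nat_lit 0x174001), (nat_lit 0x175001)], [(nat_lit 0x173001), (nat_lit 0xd4001), (nat_lit 0x222c0046a002)], [(nat_lit 0xe8001), (nat_lit 0x201200470002), (nat_lit 0x160500471002)], [(nat_lit 0x192001), (nat_lit 0x191001), (nat_lit 0xe7001)], [(nat_lit 0xe5001), (nat_lit 0x189001), (nat_lit 0x18e001)], [(nat_lit 0x18d001), (nat_lit 0x18c001), (nat_lit 0xe4001)], [(nat_lit 0xe6001), (nat_lit 0x18f001), (nat_lit 0x190001)], [(nat_lit 0x188001), (nat_lit 0xe2001), (nat_lit 0x187001)], [(nat_lit 0x18b001), (nat_lit 0x18a001), (nat_lit 0xe3001)], [(nat_lit 0xe1001), (nat_lit 0x185001), (nat_lit 0x186001)], [(nat_lit 0x184001), (nat_lit 0xdf001), (nat_lit 0xe0001)], [(nat_lit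 0xeb001), (nat_lit 0xec001), (nat_lit 0x195001)], [(nat_lit 0x1a0001), (nat_lit 0x19f001), (nat_lit 0xf1001)], [(nat_lit 0xf0001), (nat_lit 0x19d001), (nat_lit 0x19e001)], [(nat_lit 0x19b001), (nat_lit 0xef001), (nat_lit 0x19a001)], [(nat_lit 0xf3001), (nat_lit 0x1a2001), (nat_lit 0x1a3001)], [(nat_lit 0x1a7900473002), (nat_lit 0x1a1001), (nat_lit 0xf2001)], [(nat_lit 0x194001), (nat_lit 0x237f00472002), (nat_lit 0xea001)], [(nat_lit 0xee001), (nat_lit 0x198001), (nat_lit 0x199001)], [(nat_lit 0x197001), (nat_lit 0xed001), (nat_lit 0x196001)], [(nat_lit 0x193001), (nat_lit 0x406001), (nat_lit 0xe9001)], [(nat_lit 0x170001), (nat_lit 0xd2001), (nat_lit 0x161900469002)], [(nat_lit 0x172001), (nat_lit 0x171001), (nat_lit 0xd3001)], [(nat_lit 0xd1001), (nat_lit 0x16e001), (nat_lit 0x16f001)], [(nat_lit 0x242d00468002), (nat_lit 0x16c001), (nat_lit 0xd0001)], [(nat_lit 0xdb001), (nat_lit 0x17b001), (nat_lit 0x180001)],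 [(nat_lit 0x1cf30046f002), (nat_lit 0x17e001), (nat_lit 0xda001)], [(nat_lit 0xdd001), (nat_lit 0x183001), (nat_lit 0xde001)], [(nat_lit 0x182001), (nat_lit 0xdc001), (nat_lit 0x181001)], [(nat_lit 0x17a001), (nat_lit 0xd8001), (nat_lit 0x179001)], [(nat_lit 0x17d001), (nat_lit 0x17c001), (nat_lit 0xd9001)], [(nat_lit 0xd7001), (nat_lit 0x177001), (nat_lit 0x178001)], [(nat_lit 0x176001), (nat_lit 0xd6001), (nat_lit 0x16d001)], [(nat_lit 0x1c1001), (nat_lit 0x1c2001), (nat_lit 0x1e90004d8002)], [(nat_lit 0x1e91004dc002), (nat_lit 0x2c1001), (nat_lit 0x1c7001)], [(nat_lit 0x1c6001), (nat_lit 0x1bee004da002), (nat_lit 0x2401004db002)], [(nat_lit 0x2c0001), (nat_lit 0x1c5001), (nat_lit 0x2bf001)], [(nat_lit 0x293001), (nat_lit 0x1ca001), (nat_lit 0x2c3001)], [(nat_lit 0x1bc001), (nat_lit 0x2b8001), (nat_lit 0x1bd001)], [(nat_lit 0x1c9001), (nat_lit 0x2c2001), (nat_lit 0x1cbd004df002)], [(nat_lit 0x1e39004dd002), (nat_lit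 0x1e3a004de002), (nat_lit 0x1c8001)], [(nat_lit 0x2bb001), (nat_lit 0x23a2004d7002), (nat_lit 0x1c0001)], [(nat_lit 0x1c4001), (nat_lit 0x2be001), (nat_lit 0x23a3004d9002)], [(nat_lit 0x2bd001), (nat_lit 0x1c3001), (nat_lit 0x2bc001)], [(nat_lit 0x2246004d5002), (nat_lit 0x1be001), (nat_lit 0x1d99004d6002)], [(nat_lit 0x2ba001), (nat_lit 0x2b9001), (nat_lit 0x1bf001)], [(nat_lit 0x1f7b004cf002), (nat_lit 0x1b5001), (nat_lit 0x2a9001)], [(nat_lit 0x19b900523002), (nat_lit 0x311001), (nat_lit 0x213001)], [(nat_lit 0x1c6e00466002), (nat_lit 0x305001), (nat_lit 0x208001)], [(nat_lit 0x1be600525002), (nat_lit 0x315001), (nat_lit 0x216001)], [(nat_lit 0x1e100051d002), (nat_lit 0x210001), (nat_lit 0x30f001)], [(nat_lit 0x211400526002), (nat_lit 0x31a001), (nat_lit 0x219001)], [(nat_lit 0x218001), (nat_lit 0x318001), (nat_lit 0x319001)], [(nat_lit 0x317001), (nat_lit 0x217001), (nat_lit 0x316001)], [(nat_lit 0x212001), (nat_lit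 0x19bb00522002), (nat_lit 0x310001)], [(nat_lit 0x233300520002), (nat_lit 0x211001), (nat_lit 0x19b500521002)], [(nat_lit 0x314001), (nat_lit 0x313001), (nat_lit 0x215001)], [(nat_lit 0x214001), (nat_lit 0x1f8400524002), (nat_lit 0x312001)], [(nat_lit 0x2f5001), (nat_lit 0x1f6001), (nat_lit 0x191400505002)], [(nat_lit 0x206001), (nat_lit 0x1dee00513002), (nat_lit 0x304001)], [(nat_lit 0x1fc001), (nat_lit 0x2fa001), (nat_lit 0x2fb001)], [(nat_lit 0x1df60050a002), (nat_lit 0x1fb001), (nat_lit 0x1c750050b002)], [(nat_lit 0x1cfa00439002), (nat_lit 0x207001), (nat_lit 0x23f000516002)], [(nat_lit 0x203001), (nat_lit 0x2ff001), (nat_lit 0x301001)], [(nat_lit 0x1d660050f002), (nat_lit 0x1be300510002), (nat_lit 0x202001)], [(nat_lit 0x205001), (nat_lit 0x302001), (nat_lit 0x303001)], [(nat_lit 0x1ed600511002), (nat_lit 0x204001), (nat_lit 0x1ad800512002)], [(nat_lit 0x2fe001), (nat_lit 0x200001), (nat_lit 0x2fd001)], [(nat_lit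 0x300001), (nat_lit 0x23460050e002), (nat_lit 0x201001)], [(nat_lit 0x1cb000500002), (nat_lit 0x22a100501002), (nat_lit 0x1f4001)], [(nat_lit 0x20e70050d002), (nat_lit 0x1fe001), (nat_lit 0x1ff001)], [(nat_lit 0x2b5001), (nat_lit 0x1d040051b002), (nat_lit 0x20d001)], [(nat_lit 0x20c001), (nat_lit 0x1fff00518002), (nat_lit 0x30b001)], [(nat_lit 0x30a001), (nat_lit 0x20b001), (nat_lit 0x309001)], [(nat_lit 0x20f001), (nat_lit 0x30e001), (nat_lit 0x19a30051c002)], [(nat_lit 0x30d001), (nat_lit 0x30c001), (nat_lit 0x20e001)], [(nat_lit 0x205b00517002), (nat_lit 0x20a001), (nat_lit 0x308001)], [(nat_lit 0x209001), (nat_lit 0x306001), (nat_lit 0x307001)], [(nat_lit 0x1f9001), (nat_lit 0x245a00506002), (nat_lit 0x245b00509002)], [(nat_lit 0x2f9001), (nat_lit 0x2f8001), (nat_lit 0x1fa001)], [(nat_lit 0x2f7001), (nat_lit 0x23aa00486002), (nat_lit 0x1f8001)], [(nat_lit 0x1df001), (nat_lit 0x1c4e004ee002), (nat_lit 0x2dd001)],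 [(nat_lit 0x2dc001), (nat_lit 0x1dd001), (nat_lit 0x1de001)], [(nat_lit 0x1fd001), (nat_lit 0x2fc001), (nat_lit 0x21fa0050c002)], [(nat_lit 0x17d001), (nat_lit 0x2347004a9002), (nat_lit 0x268001)], [(nat_lit 0x1ed001), (nat_lit 0x1ee001), (nat_lit 0x2ed001)], [(nat_lit 0x21d1004fe002), (nat_lit 0x22ac004ff002), (nat_lit 0x1f3001)], [(nat_lit 0x1f2001), (nat_lit 0x2362004fd002), (nat_lit 0x2f3001)], [(nat_lit 0x2365004fc002), (nat_lit 0x1f1001), (nat_lit 0x2f2001)], [(nat_lit 0x2de001), (nat_lit 0x2f6001), (nat_lit 0x1f7001)], [(nat_lit 0x1f5001), (nat_lit 0x1d7e00504002), (nat_lit 0x2f4001)], [(nat_lit 0x2ec001), (nat_lit 0x2eb001), (nat_lit 0x1ec001)], [(nat_lit 0x1f0001), (nat_lit 0x2f0001), (nat_lit 0x2f1001)], [(nat_lit 0x2ef001), (nat_lit 0x1ef001), (nat_lit 0x2ee001)], [(nat_lit 0x19920053e002), (nat_lit 0x331001), (nat_lit 0x231001)], [(nat_lit 0x230001), (nat_lit 0x1fcf0053d002), (nat_lit 0x330001)], [(nat_lit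 0x32f001), (nat_lit 0x32d001), (nat_lit 0x22f001)], [(nat_lit 0x245001), (nat_lit 0x244001), (nat_lit 0x344001)], [(nat_lit 0x247001), (nat_lit 0x15fa0054e002), (nat_lit 0x246001)], [(nat_lit 0x2095004bd002), (nat_lit 0x198001), (nat_lit 0x1f9b004be002)], [(nat_lit 0x217f0054d002), (nat_lit 0x243001), (nat_lit 0x32e001)], [(nat_lit 0x23c001), (nat_lit 0x23d001), (nat_lit 0x21ef00549002)], [(nat_lit 0x342001), (nat_lit 0x21740054c002), (nat_lit 0x241001)], [(nat_lit 0x240001), (nat_lit 0x178f0054a002), (nat_lit 0x232d0054b002)], [(nat_lit 0x341001), (nat_lit 0x23f001), (nat_lit 0x340001)], [(nat_lit 0x1df2004e4002), (nat_lit 0x2369004e5002), (nat_lit 0x1cf001)], [(nat_lit 0x338001), (nat_lit 0x343001), (nat_lit 0x242001)], [(nat_lit 0x33d001), (nat_lit 0x33c001), (nat_lit 0x23b001)], [(nat_lit 0x17f001), (nat_lit 0x17e001), (nat_lit 0x269001)], [(nat_lit 0x33f001), (nat_lit 0x23e001), (nat_lit 0x33e001)], [(nat_lit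 0x33a001), (nat_lit 0x239001), (nat_lit 0x243a00545002)], [(nat_lit 0x17f500548002), (nat_lit 0x33b001), (nat_lit 0x23a001)], [(nat_lit 0x238001), (nat_lit 0x237c00544002), (nat_lit 0x339001)], [(nat_lit 0x250001), (nat_lit 0x34f001), (nat_lit 0x220100551002)], [(nat_lit 0x34e001), (nat_lit 0x24f001), (nat_lit 0x34d001)], [(nat_lit 0x198700552002), (nat_lit 0x252001), (nat_lit 0x352001)], [(nat_lit 0x251001), (nat_lit 0x350001), (nat_lit 0x351001)], [(nat_lit 0x194001), (nat_lit 0x23f8004b7002), (nat_lit 0x170e004b8002)], [(nat_lit 0x24b001), (nat_lit 0x179400451002), (nat_lit 0x34b001)], [(nat_lit 0x34a001), (nat_lit 0x349001), (nat_lit 0x24a001)], [(nat_lit 0x24d001), (nat_lit 0x34c001), (nat_lit 0x24e001)], [(nat_lit 0x22c90054f002), (nat_lit 0x24c001), (nat_lit 0x1d9a00550002)], [(nat_lit 0x179400452002), (nat_lit 0x248001), (nat_lit 0x345001)], [(nat_lit 0x347001), (nat_lit 0x346001), (nat_lit 0x249001)], [(nat_lit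 0x22c001), (nat_lit 0x23770044e002), (nat_lit 0x329001)], [(nat_lit 0x17c90053a002), (nat_lit 0x328001), (nat_lit 0x22b001)], [(nat_lit 0x22e001), (nat_lit 0x1d750053c002), (nat_lit 0x32c001)], [(nat_lit 0x32a001), (nat_lit 0x22d001), (nat_lit 0x19c70053b002)], [(nat_lit 0x23770044f002), (nat_lit 0x229001), (nat_lit 0x230c00539002)], [(nat_lit 0x327001), (nat_lit 0x326001), (nat_lit 0x22a001)], [(nat_lit 0x228001), (nat_lit 0x325001), (nat_lit 0x23e600538002)], [(nat_lit 0x225b00537002), (nat_lit 0x226001), (nat_lit 0x227001)], [(nat_lit 0x1f65004a1002), (nat_lit 0x171001), (nat_lit 0x1f67004a2002)], [(nat_lit 0x236001), (nat_lit 0x237001), (nat_lit 0x337001)], [(nat_lit 0x235001), (nat_lit 0x335001), (nat_lit 0x336001)], [(nat_lit 0x334001), (nat_lit 0x234001), (nat_lit 0x333001)], [(nat_lit 0x232001), (nat_lit 0x226b0053f002), (nat_lit 0x233b00540002)], [(nat_lit 0x332001), (nat_lit 0x1e3e00543002), (nat_lit 0x233001)],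 [(nat_lit 0x19b100527002), (nat_lit 0x22f700528002), (nat_lit 0x21a001)], [(nat_lit 0x2006004f1002), (nat_lit 0x1e0001), (nat_lit 0x20ed004f2002)], [(nat_lit 0x31f001), (nat_lit 0x220001), (nat_lit 0x20cd0052e002)], [(nat_lit 0x21f001), (nat_lit 0x31d001), (nat_lit 0x31e001)], [(nat_lit 0x21de0052d002), (nat_lit 0x21df00448002), (nat_lit 0x21e001)], [(nat_lit 0x224001), (nat_lit 0x321001), (nat_lit 0x1d5500536002)], [(nat_lit 0x322001), (nat_lit 0x191600535002), (nat_lit 0x223001)], [(nat_lit 0x324001), (nat_lit 0x225001), (nat_lit 0x323001)], [(nat_lit 0x320001), (nat_lit 0x222001), (nat_lit 0x214a00534002)], [(nat_lit 0x22b900533002), (nat_lit 0x221001), (nat_lit 0x21df00449002)], [(nat_lit 0x2a4001), (nat_lit 0x1f49004c9002), (nat_lit 0x1ac001)], [(nat_lit 0x1b9f0052b002), (nat_lit 0x21c001), (nat_lit 0x31b001)], [(nat_lit 0x1eeb0052c002), (nat_lit 0x31c001), (nat_lit 0x21d001)], [(nat_lit 0x21b001), (nat_lit 0x21b900529002),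 (nat_lit 0x1adf0052a002)], [(nat_lit 0x1d4e004cd002), (nat_lit 0x1b3001), (nat_lit 0x1e3f004ce002)], [(nat_lit 0x1b4001), (nat_lit 0x2ae001), (nat_lit 0x2af001)], [(nat_lit 0x2ab001), (nat_lit 0x1b1001), (nat_lit 0x2aa001)], [(nat_lit 0x2ad001), (nat_lit 0x2ac001), (nat_lit 0x1b2001)], [(nat_lit 0x17bf004cc002), (nat_lit 0x2a8001), (nat_lit 0x1b0001)], [(nat_lit 0x1ba001), (nat_lit 0x2b1001), (nat_lit 0x2b4001)], [(nat_lit 0x2b3001), (nat_lit 0x2b2001), (nat_lit 0x1b9001)], [(nat_lit 0x2b7001), (nat_lit 0x1bb001), (nat_lit 0x2b6001)], [(nat_lit 0x2b0001), (nat_lit 0x1b7001), (nat_lit 0x2159004d2002)], [(nat_lit 0x224f004d3002), (nat_lit 0x2158004d4002), (nat_lit 0x1b8001)], [(nat_lit 0x1b6001), (nat_lit 0x2106004d0002), (nat_lit 0x2173004d1002)], [(nat_lit 0x1d38004c8002), (nat_lit 0x1ab001), (nat_lit 0x2a3001)], [(nat_lit 0x2077004ca002), (nat_lit 0x1ae001), (nat_lit 0x27c001)], [(nat_lit 0x2a7001), (nat_lit 0x23af004cb002),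 (nat_lit 0x1af001)], [(nat_lit 0x2a6001), (nat_lit 0x2a5001), (nat_lit 0x1ad001)], [(nat_lit 0x1a9001), (nat_lit 0x29d001), (nat_lit 0x2a0001)], [(nat_lit 0x29f001), (nat_lit 0x1c61004c7002), (nat_lit 0x1a8001)], [(nat_lit 0x1aa001), (nat_lit 0x2a1001), (nat_lit 0x2a2001)], [(nat_lit 0x29c001), (nat_lit 0x1a6001), (nat_lit 0x2008004c5002)], [(nat_lit 0x1980004c6002), (nat_lit 0x29e001), (nat_lit 0x1a7001)], [(nat_lit 0x2d1001), (nat_lit 0x1d5001), (nat_lit 0x1609004e8002)], [(nat_lit 0x247001), (nat_lit 0x1e2001), (nat_lit 0x2e0001)], [(nat_lit 0x2093004f4002), (nat_lit 0x2e1001), (nat_lit 0x1e3001)], [(nat_lit 0x1e1001), (nat_lit 0x1efe004f3002), (nat_lit 0x2df001)], [(nat_lit 0x1e8001), (nat_lit 0x1e9001), (nat_lit 0x2e8001)], [(nat_lit 0x1eb001), (nat_lit 0x21b5004f7002), (nat_lit 0x24e001)], [(nat_lit 0x1a5001), (nat_lit 0x296001), (nat_lit 0x29b001)], [(nat_lit 0x29a001), (nat_lit 0x299001), (nat_lit 0x1a4001)],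 [(nat_lit 0x2e7001), (nat_lit 0x2e6001), (nat_lit 0x1e7001)], [(nat_lit 0x1ea001), (nat_lit 0x2e9001), (nat_lit 0x2ea001)], [(nat_lit 0x2e3001), (nat_lit 0x1e5001), (nat_lit 0x2e2001)], [(nat_lit 0x2e5001), (nat_lit 0x2e4001), (nat_lit 0x1e6001)], [(nat_lit 0x1e4001), (nat_lit 0x1dde004f5002), (nat_lit 0x1cf9004f6002)], [(nat_lit 0x2d0001), (nat_lit 0x1dea004e7002), (nat_lit 0x1d4001)], [(nat_lit 0x1da001), (nat_lit 0x2d6001), (nat_lit 0x2402004ec002)], [(nat_lit 0x22b8004e9002), (nat_lit 0x2d9001), (nat_lit 0x1d9001)], [(nat_lit 0x1dc001), (nat_lit 0x2db001), (nat_lit 0x247300440002)], [(nat_lit 0x1b3d004ed002), (nat_lit 0x1db001), (nat_lit 0x2da001)], [(nat_lit 0x2d5001), (nat_lit 0x1d7001), (nat_lit 0x2d4001)], [(nat_lit 0x2d8001), (nat_lit 0x2d7001), (nat_lit 0x1d8001)], [(nat_lit 0x1d6001), (nat_lit 0x2d2001), (nat_lit 0x2d3001)], [(nat_lit 0x23a7004ba002), (nat_lit 0x23a8004bb002), (nat_lit 0x196001)], [(nat_lit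 0x1ce001), (nat_lit 0x1df4004e3002), (nat_lit 0x2c9001)], [(nat_lit 0x2c8001), (nat_lit 0x1cd001), (nat_lit 0x2c7001)], [(nat_lit 0x2ce001), (nat_lit 0x1d2001), (nat_lit 0x2cd001)], [(nat_lit 0x247300441002), (nat_lit 0x2cf001), (nat_lit 0x1d3001)], [(nat_lit 0x1d1001), (nat_lit 0x1dbe004e6002), (nat_lit 0x2cc001)], [(nat_lit 0x2cb001), (nat_lit 0x2ca001), (nat_lit 0x1d0001)], [(nat_lit 0x232b004e0002), (nat_lit 0x2c4001), (nat_lit 0x1cb001)], [(nat_lit 0x2c6001), (nat_lit 0x1cc001), (nat_lit 0x2c5001)], [(nat_lit 0x25c001), (nat_lit 0x174001), (nat_lit 0x2432004a4002)], [(nat_lit 0x25e001), (nat_lit 0x25d001), (nat_lit 0x175001)], [(nat_lit 0x173001), (nat_lit 0x23b9004a3002), (nat_lit 0x25b001)], [(nat_lit 0x192001), (nat_lit 0x282001), (nat_lit 0x283001)], [(nat_lit 0x281001), (nat_lit 0x191001), (nat_lit 0x21b60046c002)], [(nat_lit 0x188001), (nat_lit 0x189001), (nat_lit 0x278001)], [(nat_lit 0x209d004b2002),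 (nat_lit 0x2189004b3002), (nat_lit 0x18e001)], [(nat_lit 0x18d001), (nat_lit 0x27e001), (nat_lit 0x27f001)], [(nat_lit 0x238a004ae002), (nat_lit 0x18c001), (nat_lit 0x20d5004b1002)], [(nat_lit 0x280001), (nat_lit 0x18f001), (nat_lit 0x2259004b4002)], [(nat_lit 0x2094004b5002), (nat_lit 0x217b004b6002), (nat_lit 0x190001)], [(nat_lit 0x277001), (nat_lit 0x276001), (nat_lit 0x187001)], [(nat_lit 0x18b001), (nat_lit 0x27b001), (nat_lit 0x27d001)], [(nat_lit 0x27a001), (nat_lit 0x18a001), (nat_lit 0x279001)], [(nat_lit 0x274001), (nat_lit 0x185001), (nat_lit 0x273001)], [(nat_lit 0x2332004ad002), (nat_lit 0x275001), (nat_lit 0x186001)], [(nat_lit 0x184001), (nat_lit 0x271001), (nat_lit 0x272001)], [(nat_lit 0x286001), (nat_lit 0x2317004b9002), (nat_lit 0x195001)], [(nat_lit 0x1a0001), (nat_lit 0x291001), (nat_lit 0x292001)], [(nat_lit 0x290001), (nat_lit 0x19f001), (nat_lit 0x2264004c3002)], [(nat_lit 0x28e001), (nat_lit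 0x19d001), (nat_lit 0x28d001)], [(nat_lit 0x28f001), (nat_lit 0x22f0004c2002), (nat_lit 0x19e001)], [(nat_lit 0x19b001), (nat_lit 0x28c001), (nat_lit 0x19c001)], [(nat_lit 0x1f77004bf002), (nat_lit 0x28a001), (nat_lit 0x19a001)], [(nat_lit 0x295001), (nat_lit 0x1a2001), (nat_lit 0x294001)], [(nat_lit 0x298001), (nat_lit 0x297001), (nat_lit 0x1a3001)], [(nat_lit 0x1a40004c4002), (nat_lit 0x1a1001), (nat_lit 0x28b001)], [(nat_lit 0x289001), (nat_lit 0x288001), (nat_lit 0x199001)], [(nat_lit 0x197001), (nat_lit 0x287001), (nat_lit 0x1bd3004bc002)], [(nat_lit 0x193001), (nat_lit 0x284001), (nat_lit 0x285001)], [(nat_lit 0x170001), (nat_lit 0x255001), (nat_lit 0x258001)], [(nat_lit 0x172001), (nat_lit 0x259001), (nat_lit 0x25a001)], [(nat_lit 0x254001), (nat_lit 0x16e001), (nat_lit 0x253001)], [(nat_lit 0x257001), (nat_lit 0x256001), (nat_lit 0x16f001)], [(nat_lit 0x23fc004a0002), (nat_lit 0x16c001), (nat_lit 0x16d001)],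 [(nat_lit 0x17a001), (nat_lit 0x17b001), (nat_lit 0x265001)], [(nat_lit 0x26b001), (nat_lit 0x26a001), (nat_lit 0x180001)], [(nat_lit 0x270001), (nat_lit 0x183001), (nat_lit 0x26f001)], [(nat_lit 0x182001), (nat_lit 0x26d001), (nat_lit 0x26e001)], [(nat_lit 0x26c001), (nat_lit 0x1988004ac002), (nat_lit 0x181001)], [(nat_lit 0x264001), (nat_lit 0x263001), (nat_lit 0x179001)], [(nat_lit 0x267001), (nat_lit 0x17c001), (nat_lit 0x266001)], [(nat_lit 0x261001), (nat_lit 0x177001), (nat_lit 0x260001)], [(nat_lit 0x262001), (nat_lit 0x1d63004a8002), (nat_lit 0x178001)], [(nat_lit 0x176001), (nat_lit 0x2375004a7002), (nat_lit 0x25f001)], [(nat_lit 0x1f10005d5002), (nat_lit 0x2c1001), (nat_lit 0x3a4001)], [(nat_lit 0x2c0001), (nat_lit 0x1b9a005d4002), (nat_lit 0x189d0043f002)], [(nat_lit 0x180e005d3002), (nat_lit 0x1ebf004e1002), (nat_lit 0x2bf001)], [(nat_lit 0x293001), (nat_lit 0x382001), (nat_lit 0x292001)], [(nat_lit 0x37f001),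 (nat_lit 0x1ec6005d6002), (nat_lit 0x2c3001)], [(nat_lit 0x1cc3005c8002), (nat_lit 0x2b8001), (nat_lit 0x3a0001)], [(nat_lit 0x383001), (nat_lit 0x2c2001), (nat_lit 0x3a5001)], [(nat_lit 0x1dbc00454002), (nat_lit 0x26d001), (nat_lit 0x369001)], [(nat_lit 0x270001), (nat_lit 0x1dbc00453002), (nat_lit 0x36c001)], [(nat_lit 0x2bb001), (nat_lit 0x226e005cb002), (nat_lit 0x2417005ce002)], [(nat_lit 0x2376005d2002), (nat_lit 0x2be001), (nat_lit 0x229f00436002)], [(nat_lit 0x2bd001), (nat_lit 0x1f1a005d0002), (nat_lit 0x1f1b005d1002)], [(nat_lit 0x3a3001), (nat_lit 0x23e4005cf002), (nat_lit 0x2bc001)], [(nat_lit 0x2ba001), (nat_lit 0x3a2001), (nat_lit 0x1e15005ca002)], [(nat_lit 0x3a1001), (nat_lit 0x2b9001), (nat_lit 0x221f005c9002)], [(nat_lit 0x391001), (nat_lit 0x2a8001), (nat_lit 0x2a9001)], [(nat_lit 0x19eb00634002), (nat_lit 0x311001), (nat_lit 0x1f1c00635002)], [(nat_lit 0x1c6f00490002), (nat_lit 0x305001), (nat_lit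 0x22120062b002)], [(nat_lit 0x1c210046e002), (nat_lit 0x3ca001), (nat_lit 0x303001)], [(nat_lit 0x20370063b002), (nat_lit 0x315001), (nat_lit 0x316001)], [(nat_lit 0x3d5001), (nat_lit 0x3d3001), (nat_lit 0x30f001)], [(nat_lit 0x1bf100642002), (nat_lit 0x31a001), (nat_lit 0x3d9001)], [(nat_lit 0x24460063e002), (nat_lit 0x318001), (nat_lit 0x24450063f002)], [(nat_lit 0x224b00640002), (nat_lit 0x235a00641002), (nat_lit 0x319001)], [(nat_lit 0x317001), (nat_lit 0x24310063c002), (nat_lit 0x1afa0063d002)], [(nat_lit 0x3d6001), (nat_lit 0x19f000633002), (nat_lit 0x310001)], [(nat_lit 0x23970057e002), (nat_lit 0x275001), (nat_lit 0x23980057f002)], [(nat_lit 0x16640061b002), (nat_lit 0x2f6001), (nat_lit 0x19890061c002)], [(nat_lit 0x314001), (nat_lit 0x193b00639002), (nat_lit 0x1a890063a002)], [(nat_lit 0x3d8001), (nat_lit 0x313001), (nat_lit 0x235c00638002)], [(nat_lit 0x3d7001), (nat_lit 0x238700637002), (nat_lit 0x312001)],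 [(nat_lit 0x2f5001), (nat_lit 0x1dfe00507002), (nat_lit 0x1ee80061a002)], [(nat_lit 0x2cb001), (nat_lit 0x1d70005e1002), (nat_lit 0x2046005e2002)], [(nat_lit 0x3cb001), (nat_lit 0x21bf0062a002), (nat_lit 0x304001)], [(nat_lit 0x3c4001), (nat_lit 0x2fa001), (nat_lit 0x21b200620002)], [(nat_lit 0x3c5001), (nat_lit 0x1fda00621002), (nat_lit 0x2fb001)], [(nat_lit 0x1e74005de002), (nat_lit 0x1e75005df002), (nat_lit 0x2c9001)], [(nat_lit 0x1d71005e0002), (nat_lit 0x2ca001), (nat_lit 0x1d720044c002)], [(nat_lit 0x2fe001), (nat_lit 0x2ff001), (nat_lit 0x1d1a00626002)], [(nat_lit 0x1de300628002), (nat_lit 0x1d1c00629002), (nat_lit 0x301001)], [(nat_lit 0x1d67005ef002), (nat_lit 0x2d7001), (nat_lit 0x3b0001)], [(nat_lit 0x1cdc005f4002), (nat_lit 0x1c43005f7002), (nat_lit 0x2e0001)], [(nat_lit 0x3c9001), (nat_lit 0x302001), (nat_lit 0x3c8001)], [(nat_lit 0x1f5e005b3002), (nat_lit 0x389001), (nat_lit 0x2a0001)], [(nat_lit 0x1fab005f8002),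 (nat_lit 0x2e1001), (nat_lit 0x1b10005f9002)], [(nat_lit 0x3c7001), (nat_lit 0x1e0a00625002), (nat_lit 0x2fd001)], [(nat_lit 0x300001), (nat_lit 0x229f00437002), (nat_lit 0x1d6200627002)], [(nat_lit 0x27a001), (nat_lit 0x223900588002), (nat_lit 0x23c300589002)], [(nat_lit 0x215e0058a002), (nat_lit 0x27b001), (nat_lit 0x27c001)], [(nat_lit 0x2b5001), (nat_lit 0x1e7d005c1002), (nat_lit 0x2b4001)], [(nat_lit 0x30a001), (nat_lit 0x1f800062f002), (nat_lit 0x3d1001)], [(nat_lit 0x39d001), (nat_lit 0x39f001), (nat_lit 0x30b001)], [(nat_lit 0x1d2b0062e002), (nat_lit 0x3cf001), (nat_lit 0x309001)], [(nat_lit 0x1e920051f002), (nat_lit 0x30e001), (nat_lit 0x3d2001)], [(nat_lit 0x30d001), (nat_lit 0x1a3a00631002), (nat_lit 0x248100632002)], [(nat_lit 0x19c500630002), (nat_lit 0x30c001), (nat_lit 0x3d0001)], [(nat_lit 0x21790062d002), (nat_lit 0x3ce001), (nat_lit 0x308001)], [(nat_lit 0x1fe20051a002), (nat_lit 0x306001), (nat_lit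 0x3cc001)], [(nat_lit 0x21d80062c002), (nat_lit 0x3cd001), (nat_lit 0x307001)], [(nat_lit 0x2ef001), (nat_lit 0x3be001), (nat_lit 0x246c0060d002)], [(nat_lit 0x2f9001), (nat_lit 0x3c3001), (nat_lit 0x23580061f002)], [(nat_lit 0x24780061d002), (nat_lit 0x2f8001), (nat_lit 0x1ce30061e002)], [(nat_lit 0x2f7001), (nat_lit 0x3c1001), (nat_lit 0x3c2001)], [(nat_lit 0x18030056b002), (nat_lit 0x23ea0056c002), (nat_lit 0x268001)], [(nat_lit 0x2de001), (nat_lit 0x3b5001), (nat_lit 0x2dd001)], [(nat_lit 0x2dc001), (nat_lit 0x1bed005f2002), (nat_lit 0x1b78005f3002)], [(nat_lit 0x234a00622002), (nat_lit 0x2fc001), (nat_lit 0x3c6001)], [(nat_lit 0x23000060a002), (nat_lit 0x23b80060b002), (nat_lit 0x2ed001)], [(nat_lit 0x22c3005bd002), (nat_lit 0x2ac001), (nat_lit 0x394001)], [(nat_lit 0x264001), (nat_lit 0x231d00566002), (nat_lit 0x1c2e00567002)], [(nat_lit 0x224500617002), (nat_lit 0x1ef300618002), (nat_lit 0x2f3001)], [(nat_lit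 0x3bf001), (nat_lit 0x235300502002), (nat_lit 0x2f2001)], [(nat_lit 0x3c0001), (nat_lit 0x21e200619002), (nat_lit 0x2f4001)], [(nat_lit 0x2ec001), (nat_lit 0x234400609002), (nat_lit 0x3bc001)], [(nat_lit 0x235000605002), (nat_lit 0x2eb001), (nat_lit 0x233400608002)], [(nat_lit 0x1b1d0060e002), (nat_lit 0x2f0001), (nat_lit 0x1b1e0060f002)], [(nat_lit 0x1f7300530002), (nat_lit 0x1e7700610002), (nat_lit 0x2f1001)], [(nat_lit 0x3bd001), (nat_lit 0x23350060c002), (nat_lit 0x2ee001)], [(nat_lit 0x1aa20065e002), (nat_lit 0x331001), (nat_lit 0x3de001)], [(nat_lit 0x2ad001), (nat_lit 0x1fd0005be002), (nat_lit 0x395001)], [(nat_lit 0x3dd001), (nat_lit 0x1d4f0065d002), (nat_lit 0x330001)], [(nat_lit 0x32f001), (nat_lit 0x20230065b002), (nat_lit 0x24630065c002)], [(nat_lit 0x18c30065a002), (nat_lit 0x32d001), (nat_lit 0x32e001)], [(nat_lit 0x17dd0067e002), (nat_lit 0x3ec001), (nat_lit 0x344001)], [(nat_lit 0x2109004c1002), (nat_lit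 0x287001), (nat_lit 0x379001)], [(nat_lit 0x342001), (nat_lit 0x3ea001), (nat_lit 0x1c9e0067d002)], [(nat_lit 0x21e600596002), (nat_lit 0x21e700597002), (nat_lit 0x283001)], [(nat_lit 0x341001), (nat_lit 0x17b40067b002), (nat_lit 0x23910067c002)], [(nat_lit 0x370001), (nat_lit 0x276001), (nat_lit 0x238e00580002)], [(nat_lit 0x21880067a002), (nat_lit 0x3e8001), (nat_lit 0x340001)], [(nat_lit 0x23bc0055a002), (nat_lit 0x23bd0055b002), (nat_lit 0x25b001)], [(nat_lit 0x338001), (nat_lit 0x3e3001), (nat_lit 0x337001)], [(nat_lit 0x3eb001), (nat_lit 0x343001), (nat_lit 0x3e9001)], [(nat_lit 0x33d001), (nat_lit 0x23e000671002), (nat_lit 0x3e7001)], [(nat_lit 0x3e6001), (nat_lit 0x33c001), (nat_lit 0x3e5001)], [(nat_lit 0x18450056d002), (nat_lit 0x19bc004af002), (nat_lit 0x269001)], [(nat_lit 0x33f001), (nat_lit 0x1de600674002), (nat_lit 0x217a00679002)], [(nat_lit 0x22ae00672002), (nat_lit 0x22af00673002), (nat_lit 0x33e001)],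 [(nat_lit 0x33a001), (nat_lit 0x23c800546002), (nat_lit 0x24180066c002)], [(nat_lit 0x18a00066d002), (nat_lit 0x33b001), (nat_lit 0x1b3800670002)], [(nat_lit 0x3e4001), (nat_lit 0x230b0066b002), (nat_lit 0x339001)], [(nat_lit 0x22db00692002), (nat_lit 0x34f001), (nat_lit 0x3ef001)], [(nat_lit 0x34e001), (nat_lit 0x21ff0068e002), (nat_lit 0x22000068f002)], [(nat_lit 0x22650068c002), (nat_lit 0x23f90068d002), (nat_lit 0x34d001)], [(nat_lit 0x3f1001), (nat_lit 0x1eb400695002), (nat_lit 0x352001)], [(nat_lit 0x19ba00554002), (nat_lit 0x350001), (nat_lit 0x172a00693002)], [(nat_lit 0x3f0001), (nat_lit 0x242800694002), (nat_lit 0x351001)], [(nat_lit 0x25c001), (nat_lit 0x23ba004a5002), (nat_lit 0x35d001)], [(nat_lit 0x17b90064a002), (nat_lit 0x17720064b002), (nat_lit 0x323001)], [(nat_lit 0x183900688002), (nat_lit 0x1bec00689002), (nat_lit 0x34b001)], [(nat_lit 0x34a001), (nat_lit 0x3ee001), (nat_lit 0x178500687002)], [(nat_lit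 0x183400686002), (nat_lit 0x349001), (nat_lit 0x3ed001)], [(nat_lit 0x24620068a002), (nat_lit 0x34c001), (nat_lit 0x23d30068b002)], [(nat_lit 0x1edd0067f002), (nat_lit 0x1fe900680002), (nat_lit 0x345001)], [(nat_lit 0x347001), (nat_lit 0x348001), (nat_lit 0x17c100685002)], [(nat_lit 0x23ab00681002), (nat_lit 0x346001), (nat_lit 0x233000682002)], [(nat_lit 0x236e00574002), (nat_lit 0x231000577002), (nat_lit 0x26f001)], [(nat_lit 0x181100654002), (nat_lit 0x187600655002), (nat_lit 0x329001)], [(nat_lit 0x1fa9005fc002), (nat_lit 0x328001), (nat_lit 0x1fde00653002)], [(nat_lit 0x19c600542002), (nat_lit 0x1e1d00659002), (nat_lit 0x32c001)], [(nat_lit 0x32a001), (nat_lit 0x1df700658002), (nat_lit 0x32b001)], [(nat_lit 0x29c001), (nat_lit 0x29d001), (nat_lit 0x2485005ad002)], [(nat_lit 0x327001), (nat_lit 0x23b100652002), (nat_lit 0x3dc001)], [(nat_lit 0x236c00650002), (nat_lit 0x326001), (nat_lit 0x236d00651002)], [(nat_lit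 0x23a60064e002), (nat_lit 0x325001), (nat_lit 0x24160064f002)], [(nat_lit 0x361001), (nat_lit 0x263001), (nat_lit 0x23a500565002)], [(nat_lit 0x3e0001), (nat_lit 0x335001), (nat_lit 0x219400667002)], [(nat_lit 0x21400066a002), (nat_lit 0x3e2001), (nat_lit 0x336001)], [(nat_lit 0x334001), (nat_lit 0x20d900665002), (nat_lit 0x20da00666002)], [(nat_lit 0x247200664002), (nat_lit 0x3df001), (nat_lit 0x333001)], [(nat_lit 0x332001), (nat_lit 0x1ec30065f002), (nat_lit 0x222300660002)], [(nat_lit 0x376001), (nat_lit 0x22d000599002), (nat_lit 0x285001)], [(nat_lit 0x31f001), (nat_lit 0x1f5900463002), (nat_lit 0x205700649002)], [(nat_lit 0x29f001), (nat_lit 0x227b005af002), (nat_lit 0x2055005b2002)], [(nat_lit 0x1f5900464002), (nat_lit 0x31d001), (nat_lit 0x1f5a00646002)], [(nat_lit 0x245f00647002), (nat_lit 0x22d300648002), (nat_lit 0x31e001)], [(nat_lit 0x217000459002), (nat_lit 0x28c001), (nat_lit 0x224c0059d002)], [(nat_lit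 0x28e001), (nat_lit 0x217000458002), (nat_lit 0x22e40059f002)], [(nat_lit 0x320001), (nat_lit 0x321001), (nat_lit 0x3da001)], [(nat_lit 0x322001), (nat_lit 0x3db001), (nat_lit 0x32b001)], [(nat_lit 0x324001), (nat_lit 0x1dd70064c002), (nat_lit 0x236b0064d002)], [(nat_lit 0x2a4001), (nat_lit 0x1fad005b7002), (nat_lit 0x38d001)], [(nat_lit 0x228c00643002), (nat_lit 0x348001), (nat_lit 0x31b001)], [(nat_lit 0x1f6f0055c002), (nat_lit 0x25d001), (nat_lit 0x35e001)], [(nat_lit 0x18ac00644002), (nat_lit 0x31c001), (nat_lit 0x1f7000645002)], [(nat_lit 0x397001), (nat_lit 0x2ae001), (nat_lit 0x396001)], [(nat_lit 0x398001), (nat_lit 0x1ec0005bf002), (nat_lit 0x2af001)], [(nat_lit 0x2ab001), (nat_lit 0x1f48005ba002), (nat_lit 0x393001)], [(nat_lit 0x1fbc005b9002), (nat_lit 0x392001), (nat_lit 0x2aa001)], [(nat_lit 0x2b0001), (nat_lit 0x2b1001), (nat_lit 0x17e5005c0002)], [(nat_lit 0x2b3001), (nat_lit 0x39b001), (nat_lit 0x39c001)],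 [(nat_lit 0x39a001), (nat_lit 0x2b2001), (nat_lit 0x399001)], [(nat_lit 0x2b7001), (nat_lit 0x1da1005c4002), (nat_lit 0x228b005c5002)], [(nat_lit 0x20c7005c2002), (nat_lit 0x21ae005c3002), (nat_lit 0x2b6001)], [(nat_lit 0x386001), (nat_lit 0x299001), (nat_lit 0x20e2005a8002)], [(nat_lit 0x21e400594002), (nat_lit 0x282001), (nat_lit 0x21e500595002)], [(nat_lit 0x22b3005b6002), (nat_lit 0x38b001), (nat_lit 0x2a3001)], [(nat_lit 0x2a7001), (nat_lit 0x390001), (nat_lit 0x1ae400444002)], [(nat_lit 0x37d001), (nat_lit 0x23f10059e002), (nat_lit 0x28d001)], [(nat_lit 0x2a6001), (nat_lit 0x38f001), (nat_lit 0x1c03005b8002)], [(nat_lit 0x38e001), (nat_lit 0x2a5001), (nat_lit 0x38c001)], [(nat_lit 0x38a001), (nat_lit 0x2a1001), (nat_lit 0x2392005b4002)], [(nat_lit 0x1ae400445002), (nat_lit 0x1f68005b5002), (nat_lit 0x2a2001)], [(nat_lit 0x29a001), (nat_lit 0x2085005a9002), (nat_lit 0x1f87005ac002)], [(nat_lit 0x388001), (nat_lit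 0x29e001), (nat_lit 0x1bea005ae002)], [(nat_lit 0x2d1001), (nat_lit 0x1e64005e8002), (nat_lit 0x21ad005e9002)], [(nat_lit 0x2105004f9002), (nat_lit 0x3b6001), (nat_lit 0x2df001)], [(nat_lit 0x3ba001), (nat_lit 0x1fb000603002), (nat_lit 0x2e8001)], [(nat_lit 0x281001), (nat_lit 0x225100592002), (nat_lit 0x222b00593002)], [(nat_lit 0x295001), (nat_lit 0x296001), (nat_lit 0x385001)], [(nat_lit 0x36d001), (nat_lit 0x387001), (nat_lit 0x29b001)], [(nat_lit 0x2e7001), (nat_lit 0x3b9001), (nat_lit 0x1e9a00435002)], [(nat_lit 0x3b8001), (nat_lit 0x2e6001), (nat_lit 0x1e8100602002)], [(nat_lit 0x1f1100604002), (nat_lit 0x2e9001), (nat_lit 0x3bb001)], [(nat_lit 0x37c001), (nat_lit 0x39e001), (nat_lit 0x2ea001)], [(nat_lit 0x2e3001), (nat_lit 0x1e06004fa002), (nat_lit 0x22b6005fe002)], [(nat_lit 0x1e07005fa002), (nat_lit 0x1f03005fd002), (nat_lit 0x2e2001)], [(nat_lit 0x2e5001), (nat_lit 0x3b7001), (nat_lit 0x1d7900601002)],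 [(nat_lit 0x2250005ff002), (nat_lit 0x2e4001), (nat_lit 0x1f5d00600002)], [(nat_lit 0x2d0001), (nat_lit 0x3ad001), (nat_lit 0x1e6a005e7002)], [(nat_lit 0x25e001), (nat_lit 0x1d6c0055d002), (nat_lit 0x35c001)], [(nat_lit 0x2d5001), (nat_lit 0x2d6001), (nat_lit 0x3af001)], [(nat_lit 0x367001), (nat_lit 0x26a001), (nat_lit 0x243300571002)], [(nat_lit 0x189d0043e002), (nat_lit 0x2d9001), (nat_lit 0x18c2005f0002)], [(nat_lit 0x1a9b00442002), (nat_lit 0x2db001), (nat_lit 0x1a99005f1002)], [(nat_lit 0x247900557002), (nat_lit 0x256001), (nat_lit 0x247a00558002)], [(nat_lit 0x3b4001), (nat_lit 0x3b3001), (nat_lit 0x2da001)], [(nat_lit 0x3ae001), (nat_lit 0x20c9005ee002), (nat_lit 0x2d4001)], [(nat_lit 0x2d8001), (nat_lit 0x3b1001), (nat_lit 0x3b2001)], [(nat_lit 0x2235005ea002), (nat_lit 0x2d2001), (nat_lit 0x218c005eb002)], [(nat_lit 0x2326005ec002), (nat_lit 0x2384005ed002), (nat_lit 0x2d3001)], [(nat_lit 0x2c8001), (nat_lit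 0x1e76005dd002), (nat_lit 0x3a9001)], [(nat_lit 0x1e6f005da002), (nat_lit 0x1d720044b002), (nat_lit 0x2c7001)], [(nat_lit 0x2ce001), (nat_lit 0x1e3d004ea002), (nat_lit 0x1c94005e4002)], [(nat_lit 0x3ac001), (nat_lit 0x2331005e3002), (nat_lit 0x2cd001)], [(nat_lit 0x21fc005e5002), (nat_lit 0x2cf001), (nat_lit 0x23dc005e6002)], [(nat_lit 0x3ab001), (nat_lit 0x3aa001), (nat_lit 0x2cc001)], [(nat_lit 0x3a6001), (nat_lit 0x2c4001), (nat_lit 0x22f3005d7002)], [(nat_lit 0x2c6001), (nat_lit 0x3a8001), (nat_lit 0x2424005d9002)], [(nat_lit 0x1e84005d8002), (nat_lit 0x3a7001), (nat_lit 0x2c5001)], [(nat_lit 0x22d600583002), (nat_lit 0x22d800584002), (nat_lit 0x278001)], [(nat_lit 0x23860058f002), (nat_lit 0x27e001), (nat_lit 0x372001)], [(nat_lit 0x21dd00590002), (nat_lit 0x373001), (nat_lit 0x27f001)], [(nat_lit 0x280001), (nat_lit 0x1e5800591002), (nat_lit 0x374001)], [(nat_lit 0x277001), (nat_lit 0x238b00581002), (nat_lit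 0x238c00582002)], [(nat_lit 0x24830058d002), (nat_lit 0x22ef0058e002), (nat_lit 0x27d001)], [(nat_lit 0x23d700587002), (nat_lit 0x371001), (nat_lit 0x279001)], [(nat_lit 0x274001), (nat_lit 0x36f001), (nat_lit 0x23930057d002)], [(nat_lit 0x23950057b002), (nat_lit 0x23960057c002), (nat_lit 0x273001)], [(nat_lit 0x22c10055f002), (nat_lit 0x215c00560002), (nat_lit 0x260001)], [(nat_lit 0x36e001), (nat_lit 0x271001), (nat_lit 0x239900578002)], [(nat_lit 0x239a00579002), (nat_lit 0x239b0057a002), (nat_lit 0x272001)], [(nat_lit 0x286001), (nat_lit 0x23e80059a002), (nat_lit 0x378001)], [(nat_lit 0x381001), (nat_lit 0x291001), (nat_lit 0x380001)], [(nat_lit 0x290001), (nat_lit 0x2366005a0002), (nat_lit 0x232e005a1002)], [(nat_lit 0x28f001), (nat_lit 0x1e9a00434002), (nat_lit 0x37e001)], [(nat_lit 0x1df00059c002), (nat_lit 0x28a001), (nat_lit 0x28b001)], [(nat_lit 0x384001), (nat_lit 0x232c005a2002), (nat_lit 0x294001)], [(nat_lit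 0x298001), (nat_lit 0x1a02005a7002), (nat_lit 0x1a9b00443002)], [(nat_lit 0x1ad3005a3002), (nat_lit 0x297001), (nat_lit 0x2291005a6002)], [(nat_lit 0x289001), (nat_lit 0x37b001), (nat_lit 0x377001)], [(nat_lit 0x37a001), (nat_lit 0x288001), (nat_lit 0x22790059b002)], [(nat_lit 0x375001), (nat_lit 0x284001), (nat_lit 0x235b00598002)], [(nat_lit 0x254001), (nat_lit 0x255001), (nat_lit 0x247100556002)], [(nat_lit 0x358001), (nat_lit 0x357001), (nat_lit 0x258001)], [(nat_lit 0x35a001), (nat_lit 0x259001), (nat_lit 0x359001)], [(nat_lit 0x35b001), (nat_lit 0x243d00559002), (nat_lit 0x25a001)], [(nat_lit 0x247700555002), (nat_lit 0x353001), (nat_lit 0x253001)], [(nat_lit 0x257001), (nat_lit 0x354001), (nat_lit 0x356001)], [(nat_lit 0x363001), (nat_lit 0x362001), (nat_lit 0x265001)], [(nat_lit 0x26b001), (nat_lit 0x214200572002), (nat_lit 0x1de900563002)], [(nat_lit 0x36b001), (nat_lit 0x36a001), (nat_lit 0x26e001)], [(nat_lit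 0x26c001), (nat_lit 0x21c500573002), (nat_lit 0x368001)], [(nat_lit 0x267001), (nat_lit 0x366001), (nat_lit 0x227a0056a002)], [(nat_lit 0x365001), (nat_lit 0x364001), (nat_lit 0x266001)], [(nat_lit 0x261001), (nat_lit 0x230e004aa002), (nat_lit 0x230f00561002)], [(nat_lit 0x262001), (nat_lit 0x1d8800564002), (nat_lit 0x360001)], [(nat_lit 0x35f001), (nat_lit 0x23450055e002), (nat_lit 0x25f001)], [(nat_lit 0x1f95006fb002), (nat_lit 0x1f97006fc002), (nat_lit 0x3a4001)], [(nat_lit 0x36d001), (nat_lit 0x1f42006be002), (nat_lit 0x36c001)], [(nat_lit 0x383001), (nat_lit 0x382001), (nat_lit 0x23d9006ce002)], [(nat_lit 0x37f001), (nat_lit 0x2440006cb002), (nat_lit 0x37e001)], [(nat_lit 0x410001), (nat_lit 0x1f4a006e7002), (nat_lit 0x395001)], [(nat_lit 0x414001), (nat_lit 0x1dc6006f5002), (nat_lit 0x3a0001)], [(nat_lit 0x1659006fd002), (nat_lit 0x416001), (nat_lit 0x3a5001)], [(nat_lit 0x3fd001), (nat_lit 0x3fc001), (nat_lit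 0x369001)], [(nat_lit 0x38a001), (nat_lit 0x22de006d9002), (nat_lit 0x40b001)], [(nat_lit 0x3a3001), (nat_lit 0x1fa1006f9002), (nat_lit 0x1fa2006fa002)], [(nat_lit 0x35b001), (nat_lit 0x23a4006a4002), (nat_lit 0x35c001)], [(nat_lit 0x22e3006f8002), (nat_lit 0x3a2001), (nat_lit 0x415001)], [(nat_lit 0x3a1001), (nat_lit 0x22d2006f6002), (nat_lit 0x2208006f7002)], [(nat_lit 0x391001), (nat_lit 0x1c1e006e2002), (nat_lit 0x1e7a006e3002)], [(nat_lit 0x224700741002), (nat_lit 0x3ca001), (nat_lit 0x1cae00742002)], [(nat_lit 0x3d5001), (nat_lit 0x1f120074f002), (nat_lit 0x23c000750002)], [(nat_lit 0x208c0074e002), (nat_lit 0x3d3001), (nat_lit 0x3d4001)], [(nat_lit 0x1c5200756002), (nat_lit 0x213e00757002), (nat_lit 0x3d9001)], [(nat_lit 0x35f001), (nat_lit 0x2400006a9002), (nat_lit 0x3f7001)], [(nat_lit 0x3d6001), (nat_lit 0x1a2500751002), (nat_lit 0x1a2600752002)], [(nat_lit 0x3cb001), (nat_lit 0x1a5900743002), (nat_lit 0x1abc00744002)],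 [(nat_lit 0x3d8001), (nat_lit 0x425001), (nat_lit 0x234f00755002)], [(nat_lit 0x3d7001), (nat_lit 0x1dc700753002), (nat_lit 0x243f00754002)], [(nat_lit 0x400001), (nat_lit 0x23d0006c3002), (nat_lit 0x372001)], [(nat_lit 0x1867006b6002), (nat_lit 0x2154006b7002), (nat_lit 0x368001)], [(nat_lit 0x3c4001), (nat_lit 0x231e00733002), (nat_lit 0x421001)], [(nat_lit 0x388001), (nat_lit 0x2227006d5002), (nat_lit 0x2144006d6002)], [(nat_lit 0x3c5001), (nat_lit 0x422001), (nat_lit 0x23ec00623002)], [(nat_lit 0x1c37006d1002), (nat_lit 0x1f54006d2002), (nat_lit 0x385001)], [(nat_lit 0x397001), (nat_lit 0x2108006e9002), (nat_lit 0x1cfa00438002)], [(nat_lit 0x2429006ef002), (nat_lit 0x39b001), (nat_lit 0x1cb1006f0002)], [(nat_lit 0x1de40070d002), (nat_lit 0x1fd50070e002), (nat_lit 0x3b0001)], [(nat_lit 0x1c380071f002), (nat_lit 0x1cb200720002), (nat_lit 0x3bb001)], [(nat_lit 0x1d4c006e8002), (nat_lit 0x412001), (nat_lit 0x396001)],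 [(nat_lit 0x3c9001), (nat_lit 0x239e0073e002), (nat_lit 0x423001)], [(nat_lit 0x21250073c002), (nat_lit 0x216d0073d002), (nat_lit 0x3c8001)], [(nat_lit 0x22c5006d7002), (nat_lit 0x389001), (nat_lit 0x237b006d8002)], [(nat_lit 0x3c7001), (nat_lit 0x238d00736002), (nat_lit 0x1e890073b002)], [(nat_lit 0x384001), (nat_lit 0x1d8f006cf002), (nat_lit 0x1ed1006d0002)], [(nat_lit 0x225e00704002), (nat_lit 0x3aa001), (nat_lit 0x1ddd00705002)], [(nat_lit 0x1b5d00612002), (nat_lit 0x424001), (nat_lit 0x3d1001)], [(nat_lit 0x39d001), (nat_lit 0x39e001), (nat_lit 0x39c001)], [(nat_lit 0x37a001), (nat_lit 0x39f001), (nat_lit 0x404001)], [(nat_lit 0x19fb0074b002), (nat_lit 0x3cf001), (nat_lit 0x3d0001)], [(nat_lit 0x1f8c0074c002), (nat_lit 0x20f90074d002), (nat_lit 0x3d2001)], [(nat_lit 0x247d00696002), (nat_lit 0x353001), (nat_lit 0x247e0069b002)], [(nat_lit 0x21ed00749002), (nat_lit 0x3ce001), (nat_lit 0x21ee0074a002)], [(nat_lit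 0x1f8e00745002), (nat_lit 0x1faa00746002), (nat_lit 0x3cc001)], [(nat_lit 0x245200747002), (nat_lit 0x3cd001), (nat_lit 0x244b00748002)], [(nat_lit 0x235e00616002), (nat_lit 0x3be001), (nat_lit 0x420001)], [(nat_lit 0x20dc00731002), (nat_lit 0x3c3001), (nat_lit 0x227f00732002)], [(nat_lit 0x24560072d002), (nat_lit 0x3c1001), (nat_lit 0x24570072e002)], [(nat_lit 0x24580072f002), (nat_lit 0x245900730002), (nat_lit 0x3c2001)], [(nat_lit 0x41c001), (nat_lit 0x3b5001), (nat_lit 0x245300715002)], [(nat_lit 0x1c2500712002), (nat_lit 0x3b3001), (nat_lit 0x1c26005f6002)], [(nat_lit 0x22e9006b1002), (nat_lit 0x366001), (nat_lit 0x22eb006b4002)], [(nat_lit 0x237400734002), (nat_lit 0x230a00735002), (nat_lit 0x3c6001)], [(nat_lit 0x361001), (nat_lit 0x2382006ab002), (nat_lit 0x3f8001)], [(nat_lit 0x2217006e6002), (nat_lit 0x40f001), (nat_lit 0x394001)], [(nat_lit 0x3bf001), (nat_lit 0x23b700729002), (nat_lit 0x211e0072a002)],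 [(nat_lit 0x3c0001), (nat_lit 0x23410072b002), (nat_lit 0x23420072c002)], [(nat_lit 0x22d100721002), (nat_lit 0x21f500722002), (nat_lit 0x3bc001)], [(nat_lit 0x1f6a006a8002), (nat_lit 0x3f6001), (nat_lit 0x35e001)], [(nat_lit 0x1ef500702002), (nat_lit 0x1ef600703002), (nat_lit 0x3a9001)], [(nat_lit 0x3bd001), (nat_lit 0x1de000727002), (nat_lit 0x23e100728002)], [(nat_lit 0x427001), (nat_lit 0x207100762002), (nat_lit 0x3de001)], [(nat_lit 0x3dd001), (nat_lit 0x23cf0075d002), (nat_lit 0x213800761002)], [(nat_lit 0x429001), (nat_lit 0x3ec001), (nat_lit 0x160f00774002)], [(nat_lit 0x225d006c9002), (nat_lit 0x403001), (nat_lit 0x379001)], [(nat_lit 0x178d00770002), (nat_lit 0x3ea001), (nat_lit 0x17cb00771002)], [(nat_lit 0x1e430070f002), (nat_lit 0x3b1001), (nat_lit 0x1d0800710002)], [(nat_lit 0x3ff001), (nat_lit 0x371001), (nat_lit 0x23d600586002)], [(nat_lit 0x370001), (nat_lit 0x23d4006c2002), (nat_lit 0x3fe001)], [(nat_lit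 0x24750076f002), (nat_lit 0x3e8001), (nat_lit 0x3e9001)], [(nat_lit 0x238100767002), (nat_lit 0x3e3001), (nat_lit 0x23ac00768002)], [(nat_lit 0x3eb001), (nat_lit 0x22ab00772002), (nat_lit 0x21d000773002)], [(nat_lit 0x3b4001), (nat_lit 0x239f00713002), (nat_lit 0x17a600714002)], [(nat_lit 0x24600076d002), (nat_lit 0x1d020076e002), (nat_lit 0x3e7001)], [(nat_lit 0x3e6001), (nat_lit 0x24120076b002), (nat_lit 0x240b0076c002)], [(nat_lit 0x246b0076a002), (nat_lit 0x231f00675002), (nat_lit 0x3e5001)], [(nat_lit 0x3e4001), (nat_lit 0x428001), (nat_lit 0x21c200769002)], [(nat_lit 0x226a006b8002), (nat_lit 0x36a001), (nat_lit 0x22f6006bb002)], [(nat_lit 0x22b00077d002), (nat_lit 0x22970077e002), (nat_lit 0x3ef001)], [(nat_lit 0x36b001), (nat_lit 0x2269006bc002), (nat_lit 0x17a9006bd002)], [(nat_lit 0x3f4001), (nat_lit 0x242b006a7002), (nat_lit 0x35d001)], [(nat_lit 0x3f1001), (nat_lit 0x1c8a00780002), (nat_lit 0x17cd00781002)],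 [(nat_lit 0x22cc006e4002), (nat_lit 0x1f36006e5002), (nat_lit 0x393001)], [(nat_lit 0x3ba001), (nat_lit 0x41f001), (nat_lit 0x170f0071e002)], [(nat_lit 0x3f0001), (nat_lit 0x23cc004f0002), (nat_lit 0x16d60077f002)], [(nat_lit 0x3ae001), (nat_lit 0x242a00709002), (nat_lit 0x22260070a002)], [(nat_lit 0x246800777002), (nat_lit 0x3ee001), (nat_lit 0x1f710077c002)], [(nat_lit 0x186500775002), (nat_lit 0x1e9700776002), (nat_lit 0x3ed001)], [(nat_lit 0x234d0069e002), (nat_lit 0x357001), (nat_lit 0x24510069f002)], [(nat_lit 0x426001), (nat_lit 0x179d0075c002), (nat_lit 0x3dc001)], [(nat_lit 0x23bf006da002), (nat_lit 0x38b001), (nat_lit 0x38c001)], [(nat_lit 0x229d006af002), (nat_lit 0x364001), (nat_lit 0x23e500569002)], [(nat_lit 0x3e0001), (nat_lit 0x214f00668002), (nat_lit 0x3e1001)], [(nat_lit 0x1c0100765002), (nat_lit 0x3e2001), (nat_lit 0x1c9600766002)], [(nat_lit 0x1bf4006cc002), (nat_lit 0x2068006cd002), (nat_lit 0x380001)],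 [(nat_lit 0x215100763002), (nat_lit 0x3df001), (nat_lit 0x1d9e00764002)], [(nat_lit 0x376001), (nat_lit 0x2261006c8002), (nat_lit 0x377001)], [(nat_lit 0x365001), (nat_lit 0x22ed006b0002), (nat_lit 0x3fa001)], [(nat_lit 0x194300758002), (nat_lit 0x1f6900759002), (nat_lit 0x3da001)], [(nat_lit 0x19600075a002), (nat_lit 0x3db001), (nat_lit 0x1bbc0075b002)], [(nat_lit 0x35a001), (nat_lit 0x1e5a006a3002), (nat_lit 0x23150043c002)], [(nat_lit 0x2474006db002), (nat_lit 0x202a006dc002), (nat_lit 0x38d001)], [(nat_lit 0x22dd0070b002), (nat_lit 0x23630070c002), (nat_lit 0x3af001)], [(nat_lit 0x188300708002), (nat_lit 0x3ad001), (nat_lit 0x41a001)], [(nat_lit 0x398001), (nat_lit 0x1e93006ec002), (nat_lit 0x411001)], [(nat_lit 0x363001), (nat_lit 0x1f44006ae002), (nat_lit 0x3f9001)], [(nat_lit 0x40e001), (nat_lit 0x392001), (nat_lit 0x40d001)], [(nat_lit 0x39a001), (nat_lit 0x1c99006ed002), (nat_lit 0x23b2006ee002)], [(nat_lit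 0x413001), (nat_lit 0x2222005c6002), (nat_lit 0x399001)], [(nat_lit 0x38e001), (nat_lit 0x2221006dd002), (nat_lit 0x40c001)], [(nat_lit 0x386001), (nat_lit 0x21d6006d3002), (nat_lit 0x2233006d4002)], [(nat_lit 0x2324006c4002), (nat_lit 0x373001), (nat_lit 0x2325006c5002)], [(nat_lit 0x1ba5006e0002), (nat_lit 0x390001), (nat_lit 0x1b71006e1002)], [(nat_lit 0x37d001), (nat_lit 0x408001), (nat_lit 0x23ee006ca002)], [(nat_lit 0x1c63006de002), (nat_lit 0x38f001), (nat_lit 0x1dfb006df002)], [(nat_lit 0x36e001), (nat_lit 0x36f001), (nat_lit 0x23da006bf002)], [(nat_lit 0x41d001), (nat_lit 0x3b6001), (nat_lit 0x238500716002)], [(nat_lit 0x40a001), (nat_lit 0x387001), (nat_lit 0x409001)], [(nat_lit 0x41e001), (nat_lit 0x3b9001), (nat_lit 0x1cde0071b002)], [(nat_lit 0x3b8001), (nat_lit 0x177800719002), (nat_lit 0x1d590071a002)], [(nat_lit 0x37c001), (nat_lit 0x37b001), (nat_lit 0x1cff00606002)], [(nat_lit 0x176e00717002), (nat_lit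 0x3b7001), (nat_lit 0x19ef00718002)], [(nat_lit 0x367001), (nat_lit 0x23b4006b5002), (nat_lit 0x3fb001)], [(nat_lit 0x41b001), (nat_lit 0x1de200711002), (nat_lit 0x3b2001)], [(nat_lit 0x3a6001), (nat_lit 0x23ce006fe002), (nat_lit 0x2320006ff002)], [(nat_lit 0x3ac001), (nat_lit 0x419001), (nat_lit 0x1cfe00707002)], [(nat_lit 0x3ab001), (nat_lit 0x1cef00706002), (nat_lit 0x418001)], [(nat_lit 0x1ce500700002), (nat_lit 0x3a8001), (nat_lit 0x1d5700701002)], [(nat_lit 0x417001), (nat_lit 0x3a7001), (nat_lit 0x2281005dc002)], [(nat_lit 0x23150043d002), (nat_lit 0x2337006c6002), (nat_lit 0x374001)], [(nat_lit 0x402001), (nat_lit 0x401001), (nat_lit 0x378001)], [(nat_lit 0x381001), (nat_lit 0x2364005a4002), (nat_lit 0x21b100576002)], [(nat_lit 0x375001), (nat_lit 0x407001), (nat_lit 0x2360006c7002)], [(nat_lit 0x358001), (nat_lit 0x234c006a0002), (nat_lit 0x23c1006a1002)], [(nat_lit 0x23b5006a2002), (nat_lit 0x3f3001), (nat_lit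 0x359001)], [(nat_lit 0x24690069c002), (nat_lit 0x354001), (nat_lit 0x355001)], [(nat_lit 0x24660069d002), (nat_lit 0x3f2001), (nat_lit 0x356001)], [(nat_lit 0x2043006ac002), (nat_lit 0x362001), (nat_lit 0x23fa006ad002)], [(nat_lit 0x183500570002), (nat_lit 0x2388006aa002), (nat_lit 0x360001)], [(nat_lit 0x3ff001), (nat_lit 0x240c00798002), (nat_lit 0x240d00799002)], [(nat_lit 0x410001), (nat_lit 0x431001), (nat_lit 0x411001)], [(nat_lit 0x414001), (nat_lit 0x1d50007b4002), (nat_lit 0x1c79007b5002)], [(nat_lit 0x21bd007b8002), (nat_lit 0x416001), (nat_lit 0x1e1a007b9002)], [(nat_lit 0x3fd001), (nat_lit 0x42d001), (nat_lit 0x1df900793002)], [(nat_lit 0x20b500791002), (nat_lit 0x3fc001), (nat_lit 0x228200792002)], [(nat_lit 0x2447007a9002), (nat_lit 0x246f007aa002), (nat_lit 0x40b001)], [(nat_lit 0x247f007b6002), (nat_lit 0x1f04007b7002), (nat_lit 0x415001)], [(nat_lit 0x1c830078b002), (nat_lit 0x1bc50078c002), (nat_lit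 0x3f9001)], [(nat_lit 0x413001), (nat_lit 0x235f007b2002), (nat_lit 0x1c47007b3002)], [(nat_lit 0x3f4001), (nat_lit 0x3f5001), (nat_lit 0x236f00784002)], [(nat_lit 0x246700787002), (nat_lit 0x246e00788002), (nat_lit 0x3f7001)], [(nat_lit 0x198a007d7002), (nat_lit 0x425001), (nat_lit 0x173b007dc002)], [(nat_lit 0x400001), (nat_lit 0x24040079a002), (nat_lit 0x24050079b002)], [(nat_lit 0x1fd8007d0002), (nat_lit 0x2383007d1002), (nat_lit 0x421001)], [(nat_lit 0x228d007a3002), (nat_lit 0x2271007a6002), (nat_lit 0x409001)], [(nat_lit 0x1ee9007d2002), (nat_lit 0x422001), (nat_lit 0x1f62007d3002)], [(nat_lit 0x23f700782002), (nat_lit 0x3f3001), (nat_lit 0x244a00783002)], [(nat_lit 0x22e0007c0002), (nat_lit 0x1fd6007c1002), (nat_lit 0x41a001)], [(nat_lit 0x1dc3007b0002), (nat_lit 0x412001), (nat_lit 0x1ec2007b1002)], [(nat_lit 0x215200738002), (nat_lit 0x2231007d4002), (nat_lit 0x423001)], [(nat_lit 0x2197007ad002), (nat_lit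 0x224300478002), (nat_lit 0x40d001)], [(nat_lit 0x23cb0078f002), (nat_lit 0x21db00790002), (nat_lit 0x3fb001)], [(nat_lit 0x22cd0079f002), (nat_lit 0x403001), (nat_lit 0x22ce007a0002)], [(nat_lit 0x2421007d5002), (nat_lit 0x424001), (nat_lit 0x2443007d6002)], [(nat_lit 0x405001), (nat_lit 0x42f001), (nat_lit 0x404001)], [(nat_lit 0x1efb007ce002), (nat_lit 0x1fea007cf002), (nat_lit 0x420001)], [(nat_lit 0x41c001), (nat_lit 0x2298007c4002), (nat_lit 0x2410007c5002)], [(nat_lit 0x206600785002), (nat_lit 0x3f6001), (nat_lit 0x243700786002)], [(nat_lit 0x1bcb007bc002), (nat_lit 0x2439007bd002), (nat_lit 0x418001)], [(nat_lit 0x1f7d00789002), (nat_lit 0x20720078a002), (nat_lit 0x3f8001)], [(nat_lit 0x430001), (nat_lit 0x40f001), (nat_lit 0x224300479002)], [(nat_lit 0x40a001), (nat_lit 0x20b7007a7002), (nat_lit 0x20aa007a8002)], [(nat_lit 0x427001), (nat_lit 0x23d5007df002), (nat_lit 0x433001)], [(nat_lit 0x429001), (nat_lit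 0x2040007e4002), (nat_lit 0x245c007e5002)], [(nat_lit 0x240800794002), (nat_lit 0x240900797002), (nat_lit 0x3fe001)], [(nat_lit 0x173f007e0002), (nat_lit 0x428001), (nat_lit 0x1715007e3002)], [(nat_lit 0x40e001), (nat_lit 0x22e1007ae002), (nat_lit 0x2280007af002)], [(nat_lit 0x432001), (nat_lit 0x41f001), (nat_lit 0x246d007cd002)], [(nat_lit 0x402001), (nat_lit 0x22fb0079d002), (nat_lit 0x16e00079e002)], [(nat_lit 0x426001), (nat_lit 0x1779007dd002), (nat_lit 0x22f5007de002)], [(nat_lit 0x24440078d002), (nat_lit 0x23560078e002), (nat_lit 0x3fa001)], [(nat_lit 0x191e0079c002), (nat_lit 0x401001), (nat_lit 0x42e001)], [(nat_lit 0x2289007ab002), (nat_lit 0x228a007ac002), (nat_lit 0x40c001)], [(nat_lit 0x2442007a1002), (nat_lit 0x408001), (nat_lit 0x241f007a2002)], [(nat_lit 0x41d001), (nat_lit 0x2218007c6002), (nat_lit 0x1724007c7002)], [(nat_lit 0x41e001), (nat_lit 0x175a0071c002), (nat_lit 0x1721007cc002)], [(nat_lit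 0x1dcf007be002), (nat_lit 0x419001), (nat_lit 0x1dd0007bf002)], [(nat_lit 0x41b001), (nat_lit 0x2434007c2002), (nat_lit 0x2435007c3002)], [(nat_lit 0x417001), (nat_lit 0x1f05007ba002), (nat_lit 0x22f2007bb002)], [(nat_lit 0x42c001), (nat_lit 0x3f2001), (nat_lit 0x42a001)], [(nat_lit 0x2052007f3002), (nat_lit 0x431001), (nat_lit 0x1aa7007f4002)], [(nat_lit 0x2425007eb002), (nat_lit 0x42d001), (nat_lit 0x1f46007ec002)], [(nat_lit 0x2470007ef002), (nat_lit 0x42f001), (nat_lit 0x247c007f0002)], [(nat_lit 0x2482007e6002), (nat_lit 0x42b001), (nat_lit 0x42a001)], [(nat_lit 0x432001), (nat_lit 0x2484007f5002), (nat_lit 0x245e007f6002)], [(nat_lit 0x430001), (nat_lit 0x2219007f1002), (nat_lit 0x1c4a007f2002)], [(nat_lit 0x19690075f002), (nat_lit 0x760001), (nat_lit 0x433001)], [(nat_lit 0x1997007ed002), (nat_lit 0x1998007ee002), (nat_lit 0x42e001)], [(nat_lit 0x42c001), (nat_lit 0x2476007e7002), (nat_lit 0x2480007e8002)]]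

theorem rows0_ok : okRows data table 9350 0 rows0 = true := by decide +kernel

theorem rows0_len : rows0.length = 990 := by decide +kernel

end CfsgLib.CosetEnum.ONMA
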